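import Cfsg.Agent.Lib.Blocks.AbFree.Main
import Cfsg.Agent.Lib.Blocks.MaxPairs
import Cfsg.Agent.Lib.Blocks.MajorValue
import Cfsg.Agent.Lib.Blocks.AbelianFreeLocal
import Cfsg.Agent.Lib.PComplement
import Cfsg.Agent.S4646
import Cfsg.Agent.S4691

/-!
# The principal block of a group with abelian Sylow subgroup: counting along the Sylow subgroup
-/

namespace CfsgLib.AbPrincipal

open Cfsg CfsgLib.CharTheory CfsgLib.Blocks
open scoped ComplexConjugate

set_option linter.unusedVariables false
set_option linter.style.haveILetI false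
set_option linter.unusedSectionVars false

universe u

variable {p : ℕ} {M : Ideal AlgInt} {G : Type u} [Group G] [Fintype G]

/-- Everything in the normaliser fixes the principal block of the centraliser. -/
theorem pairStab_principal (hM : IsPModular p M) (P : Subgroup G) :
    pairStab P (principalBlock M (Subgroup.centralizer (P : Set G))) =
      Subgroup.normalizer (P : Set G) := by
  ext g
  rw [mem_pairStab]
  refine ⟨And.left, fun hg => ⟨hg, ?_⟩⟩
  rw [stabilizesBlock_iff (normalizer_le_normalizer_cent P hg)]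
  exact image_principalBlock _

/-- The rank of the principal block of a centraliser. -/
noncomputable def lc (p : ℕ) (M : Ideal AlgInt) (u : G) : ℕ :=
  blockRank p (principalBlock M (Subgroup.centralizer ({u} : Set G)))

theorem centralizer_zpowers (u : G) :
    Subgroup.centralizer ((Subgroup.zpowers u : Subgroup G) : Set G) =
      Subgroup.centralizer ({u} : Set G) := by
  ext g
  rw [isCentr_zpowers u g, Subgroup.mem_centralizer_singleton_iff]
  exact ⟨fun h => h.eq, fun h => h⟩

theorem blockRank_principal_congr {H K : Subgroup G} (h : H = K) :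
    blockRank p (principalBlock M H) = blockRank p (principalBlock M K) := by
  subst h; rfl

theorem subRk_principal (hM : IsPModular p M) (P : Sylow p G) {u : G} (hu : u ∈ (P : Subgroup G)) :
    subRk p M (P : Subgroup G)
      (principalBlock M (Subgroup.centralizer ((P : Subgroup G) : Set G))) (Subgroup.zpowers u) =
      lc p M u := by
  haveI : Fact p.Prime := ⟨hM.1⟩
  have hle : Subgroup.zpowers u ≤ (P : Subgroup G) := Subgroup.zpowers_le.2 hu
  haveI := Fintype.ofFinite (Subgroup.centralizer ((P : Subgroup G) : Set G))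
  have e : subIdx p M (⟨(P : Subgroup G),
      principalBlock M (Subgroup.centralizer ((P : Subgroup G) : Set G))⟩ : BrauerPairIdx G)
        (Subgroup.zpowers u) =
      ⟨Subgroup.zpowers u,
        principalBlock M (Subgroup.centralizer ((Subgroup.zpowers u : Subgroup G) : Set G))⟩ :=
    subIdx_unique hM P.2 principalBlock_isPBlock
      (b := ⟨_, _⟩) (principal_subpair hM P.2 hle)
  rw [subRk, e, idxRank, lc]
  exact blockRank_principal_congr (centralizer_zpowers u)

/-- Brauer's count for the principal block. -/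
theorem count (hM : IsPModular p M) (P : Sylow p G) [Fintype (P : Subgroup G)]
    (hab : ∀ x ∈ (P : Subgroup G), ∀ y ∈ (P : Subgroup G), x * y = y * x) :
    Nat.card (Subgroup.normalizer ((P : Subgroup G) : Set G)) * Nat.card (principalBlock M G) =
      ∑ u : (P : Subgroup G), Nat.card (Subgroup.normalizer ((P : Subgroup G) : Set G) ⊓
        Subgroup.centralizer ({(u : G)} : Set G) : Subgroup G) * lc p M (u : G) := by
  haveI : Fact p.Prime := ⟨hM.1⟩
  have h := sum_sRk hM (principal_maximal hM P) hab
  rw [pairStab_principal hM] at h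
  rw [h]
  refine Finset.sum_congr rfl fun u _ => ?_
  rw [sRk, pairStab_principal hM, subRk_principal hM P u.2, centralizer_zpowers]

/-- A group with a normal `p`-complement has one Brauer character in the principal block. -/
theorem blockRank_eq_one (hM : IsPModular p M) (h : HasNormalPComplement p G) :
    blockRank p (principalBlock M G) = 1 := by
  haveI : Fact p.Prime := ⟨hM.1⟩
  exact (Cfsg.Agent.S4646.result p M hM).1 ((Cfsg.Agent.S4691.result p M hM).1 h)

theorem complement_of_blockRank (hM : IsPModular p M) (h : blockRank p (principalBlock M G) = 1) :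
    HasNormalPComplement p G := by
  haveI : Fact p.Prime := ⟨hM.1⟩
  exact (Cfsg.Agent.S4691.result p M hM).2 ((Cfsg.Agent.S4646.result p M hM).2 h)

section fusion

variable [Fact p.Prime] (P : Sylow p G)

theorem le_centralizer_singleton
    (hab : ∀ x ∈ (P : Subgroup G), ∀ y ∈ (P : Subgroup G), x * y = y * x) {y : G}
    (hy : y ∈ (P : Subgroup G)) : (P : Subgroup G) ≤ Subgroup.centralizer ({y} : Set G) :=
  fun x hx => Subgroup.mem_centralizer_singleton_iff.2 (hab x hx y hy)

/-- A centraliser whose part of the Sylow normaliser centralises the Sylow subgroup has a normal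
`p`-complement. -/
theorem complement_centralizer
    (hab : ∀ x ∈ (P : Subgroup G), ∀ y ∈ (P : Subgroup G), x * y = y * x) {y : G}
    (hy : y ∈ (P : Subgroup G))
    (h : Subgroup.normalizer ((P : Subgroup G) : Set G) ⊓ Subgroup.centralizer ({y} : Set G) ≤
      Subgroup.centralizer ((P : Subgroup G) : Set G)) :
    HasNormalPComplement p (Subgroup.centralizer ({y} : Set G)) := by
  have hle := le_centralizer_singleton P hab hy
  refine hasNormalPComplement_of_normalizer_le_centralizer (P.subtype hle) fun n hn => ?_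
  rw [Sylow.coe_subtype] at hn ⊢
  have hnN : (n : G) ∈ Subgroup.normalizer ((P : Subgroup G) : Set G) := by
    refine Subgroup.mem_normalizer_iff.2 fun z => ?_
    constructor
    · intro hz
      have := (Subgroup.mem_normalizer_iff.1 hn ⟨z, hle hz⟩).1 (Subgroup.mem_subgroupOf.2 hz)
      exact Subgroup.mem_subgroupOf.1 this
    · intro hz
      have hzC : z ∈ Subgroup.centralizer ({y} : Set G) := by
        have h1 := hle hz
        have h2 := (Subgroup.centralizer ({y} : Set G)).mul_mem
          ((Subgroup.centralizer ({y} : Set G)).mul_mem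
            ((Subgroup.centralizer ({y} : Set G)).inv_mem n.2) h1) n.2
        convert h2 using 1
        group
      exact (Subgroup.mem_subgroupOf (K := Subgroup.centralizer ({y} : Set G))
        (h := ⟨z, hzC⟩)).1 ((Subgroup.mem_normalizer_iff.1 hn ⟨z, hzC⟩).2
          (Subgroup.mem_subgroupOf.2 hz))
  have hnC := h ⟨hnN, n.2⟩
  intro z hz
  exact Subtype.ext (Subgroup.mem_centralizer_iff.1 hnC z (Subgroup.mem_subgroupOf.1 hz))

/-- If the centraliser has a normal `p`-complement, its part of the Sylow normaliser centralises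
the Sylow subgroup. -/
theorem inf_le_of_complement
    (hab : ∀ x ∈ (P : Subgroup G), ∀ y ∈ (P : Subgroup G), x * y = y * x) {y : G}
    (hy : y ∈ (P : Subgroup G))
    (h : HasNormalPComplement p (Subgroup.centralizer ({y} : Set G))) :
    Subgroup.normalizer ((P : Subgroup G) : Set G) ⊓ Subgroup.centralizer ({y} : Set G) ≤
      Subgroup.centralizer ((P : Subgroup G) : Set G) := by
  have hle := le_centralizer_singleton P hab hy
  set C := Subgroup.centralizer ({y} : Set G) with hC
  obtain ⟨S, K, hK, hcpl⟩ := h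
  haveI := hK
  have hKp : ¬ p ∣ Nat.card K := by
    rw [← hcpl.index_eq_card]
    exact S.not_dvd_index
  rintro n ⟨hnN, hnC⟩
  intro x hx
  set n' : C := ⟨n, hnC⟩
  set x' : C := ⟨x, hle hx⟩
  have hSab : ∀ a ∈ (S : Subgroup C), ∀ b ∈ (S : Subgroup C), a * b = b * a := by
    obtain ⟨c, hc⟩ := MulAction.exists_smul_eq C (P.subtype hle) S
    intro a ha b hb
    rw [← hc, Sylow.coe_subgroup_smul, Subgroup.mem_pointwise_smul_iff_inv_smul_mem,
      Sylow.coe_subtype, Subgroup.mem_subgroupOf] at ha hb
    have e := hab _ ha _ hb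
    apply (MulAut.conj c)⁻¹.injective
    rw [map_mul, map_mul]
    exact Subtype.ext e
  -- the quotient by the complement is abelian
  have hcomm : ((n' * x' * n'⁻¹ * x'⁻¹ : C)) ∈ K := by
    have hmem : ∀ g : C, ∃ k ∈ K, ∃ s ∈ (S : Subgroup C), k * s = g := by
      intro g
      obtain ⟨⟨k, s⟩, hsk⟩ := hcpl.surjective g
      exact ⟨k, k.2, s, s.2, hsk⟩
    rw [← QuotientGroup.eq_one_iff]
    obtain ⟨k₁, hk₁, s₁, hs₁, e₁⟩ := hmem n'
    obtain ⟨k₂, hk₂, s₂, hs₂, e₂⟩ := hmem x'
    have c12 : s₁ * s₂ = s₂ * s₁ :=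
      hSab s₁ hs₁ s₂ hs₂
    rw [← e₁, ← e₂]
    simp only [QuotientGroup.mk_mul, QuotientGroup.mk_inv, (QuotientGroup.eq_one_iff _).2 hk₁,
      (QuotientGroup.eq_one_iff _).2 hk₂, one_mul]
    rw [← QuotientGroup.mk_inv, ← QuotientGroup.mk_inv, ← QuotientGroup.mk_mul, ← QuotientGroup.mk_mul,
      ← QuotientGroup.mk_mul, c12, mul_inv_cancel_right, mul_inv_cancel, QuotientGroup.mk_one]
  have hP : n * x * n⁻¹ * x⁻¹ ∈ (P : Subgroup G) :=
    (P : Subgroup G).mul_mem ((Subgroup.mem_normalizer_iff.1 hnN x).1 hx)
      ((P : Subgroup G).inv_mem hx)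
  obtain ⟨k, hk⟩ := IsPGroup.iff_orderOf.1 P.2 ⟨_, hP⟩
  rw [← Subgroup.orderOf_coe] at hk
  have h1 : orderOf (n' * x' * n'⁻¹ * x'⁻¹) ∣ Nat.card K :=
    Subgroup.orderOf_dvd_natCard _ hcomm
  rw [← Subgroup.orderOf_coe] at h1
  change orderOf (n * x * n⁻¹ * x⁻¹) ∣ _ at h1
  rw [hk] at h1
  rcases Nat.eq_zero_or_pos k with rfl | hk0
  · rw [pow_zero, orderOf_eq_one_iff, mul_inv_eq_one, mul_inv_eq_iff_eq_mul] at hk
    exact hk.symm
  · exact absurd ((dvd_pow_self p hk0.ne').trans h1) hKp

end fusion

/-- On a section whose centraliser has a normal `p`-complement the characters of the principal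
block are constant. -/
theorem section_const (hM : IsPModular p M) {y : G} (hy : ∃ k : ℕ, orderOf y = p ^ k)
    (hC : HasNormalPComplement p (Subgroup.centralizer ({y} : Set G))) {χ : IrrCharacter G}
    (hχ : χ ∈ principalBlock M G) {v : G} (hv : Commute y v) (hvr : ¬ p ∣ orderOf v) :
    (χ : G → ℂ) (y * v) = (χ : G → ℂ) y := by
  classical
  haveI : Fact p.Prime := ⟨hM.1⟩
  have hc : IsCentr y (Subgroup.centralizer ({y} : Set G)) :=
    AbelianFree.isCentr_centralizer y
  set C := Subgroup.centralizer ({y} : Set G) with hCdef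
  haveI := Fintype.ofFinite C
  obtain ⟨S, K, hKn, hcpl⟩ := hC
  haveI := hKn
  have hK : ¬ p ∣ Nat.card K := by
    rw [← hcpl.index_eq_card]
    exact S.not_dvd_index
  have hidx : K.index = Nat.card S := hcpl.symm.index_eq_card
  obtain ⟨j, hj⟩ := S.2.exists_card_eq
  have hreg := AbelianFree.mem_iff_regular (p := p) hM.1 hK (hidx.trans hj)
  -- the function on the centraliser is a combination of characters trivial on the complement
  have key : ∀ w : C, ¬ p ∣ orderOf w →
      (χ : G → ℂ) (y * (w : G)) = ∑ φ ∈ bset (principalBlock M C),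
        classInner (sec y C (χ : G → ℂ)) (φ : C → ℂ) * (φ : C → ℂ) 1 := by
    intro w hw
    have h1 := sec_eq_overBlocks hM hc hy principalBlock_isPBlock χ (y := w) hw
    rw [overBlocks_principal hM hc hy, ind_of_mem hχ, one_mul] at h1
    refine h1.symm.trans ?_
    rw [blockPart_apply]
    refine Finset.sum_congr rfl fun φ hφ => ?_
    have hφ' := mem_bset.1 hφ
    rw [principalBlock_of_complement (G := C) hM hK ⟨j, hidx.trans hj⟩] at hφ'
    rw [hφ' w ((hreg w).2 hw)]
  have hv' : v ∈ C := (hc v).2 hv.symm
  have e1 := key ⟨v, hv'⟩ (by rw [← Subgroup.orderOf_coe]; exact hvr)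
  have e2 := key 1 (by rw [orderOf_one]; exact hM.1.not_dvd_one)
  rw [OneMemClass.coe_one, mul_one] at e2
  exact e1.trans e2.symm

end CfsgLib.AbPrincipal
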