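import Cfsg.Agent.Lib.AbPrincipal.Counts
import Cfsg.Agent.Lib.Blocks.Inflation
import Cfsg.Agent.Lib.Blocks.RankQuotient
import Cfsg.Agent.Lib.Blocks.Principal
import Cfsg.Agent.Lib.PLocal.ThompsonFactor
import Cfsg.Agent.Lib.PSolvable
import Cfsg.Agent.Lib.HallE8.Solvable

/-!
# Passing to the quotient by the `p'`-core
-/

namespace CfsgLib.AbPrincipal

open Cfsg CfsgLib.CharTheory CfsgLib.Blocks

set_option linter.unusedVariables false
set_option linter.style.haveILetI false
set_option linter.unusedSectionVars false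

universe u

variable {p : ℕ} {M : Ideal AlgInt} {G : Type u} [Group G] [Fintype G]

section quot

variable (N : Subgroup G) [N.Normal]

theorem inflIrr_injective :
    Function.Injective (Inflation.inflIrr N : IrrCharacter (G ⧸ N) → IrrCharacter G) := by
  intro a b h
  refine Subtype.ext (funext fun q => ?_)
  obtain ⟨g, rfl⟩ := QuotientGroup.mk_surjective q
  exact congrArg (fun χ : IrrCharacter G => (χ : G → ℂ) g) h

theorem principalBlock_inflate (hM : IsPModular p M) (hN : ¬ p ∣ Nat.card N) :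
    principalBlock M G = Inflation.inflIrr N '' principalBlock M (G ⧸ N) := by
  haveI := Fintype.ofFinite (G ⧸ N)
  ext ψ
  constructor
  · intro hψ
    have e : (Inflation.inflIrr N (oneIrr (G ⧸ N)) : G → ℂ) = (oneIrr G : G → ℂ) := rfl
    obtain ⟨ψ', hψ', hs⟩ := Inflation.block_of_inflation hM N hN (oneIrr (G ⧸ N)) (ψ := ψ)
      (by rw [e]; exact hψ)
    exact ⟨ψ', hs, Subtype.ext hψ'.symm⟩
  · rintro ⟨ψ', hψ', rfl⟩
    refine (sameBlock_iff_res hM (oneIrr G) _).2 fun g => ?_
    rw [show oneIrr G = Inflation.inflIrr N (oneIrr (G ⧸ N)) from rfl]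
    exact Inflation.res_clv_ascend hM N g ((sameBlock_iff_res hM (oneIrr (G ⧸ N)) ψ').1 hψ' _)

theorem card_principalBlock_quot (hM : IsPModular p M) (hN : ¬ p ∣ Nat.card N) :
    Nat.card (principalBlock M (G ⧸ N)) = Nat.card (principalBlock M G) := by
  rw [principalBlock_inflate N hM hN]
  exact (Nat.card_image_of_injective (inflIrr_injective N) _).symm

/-- Regular cosets contain regular elements. -/
theorem exists_regular_lift' (hp : p.Prime) (hN : ¬ p ∣ Nat.card N) {q : G ⧸ N}
    (hq : ¬ p ∣ orderOf q) : ∃ g : G, (g : G ⧸ N) = q ∧ ¬ p ∣ orderOf g := by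
  obtain ⟨g, rfl⟩ := QuotientGroup.mk_surjective q
  obtain ⟨x, y, h, hc, ⟨k, hx⟩, hy, hxm, -⟩ := exists_pPart hp g
  refine ⟨y, ?_, hy⟩
  have hmem : x ∈ N := by
    rw [← QuotientGroup.eq_one_iff, ← orderOf_eq_one_iff]
    refine Nat.eq_one_of_dvd_coprimes ((hp.coprime_iff_not_dvd.2 hq).pow_left k)
      (hx ▸ orderOf_map_dvd (QuotientGroup.mk' N) x) ?_
    obtain ⟨m, hm⟩ := Subgroup.mem_zpowers_iff.1 hxm
    rw [← hm, QuotientGroup.mk_zpow]
    exact orderOf_dvd_of_mem_zpowers (Subgroup.zpow_mem_zpowers _ m)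
  rw [← h, QuotientGroup.mk_mul, (QuotientGroup.eq_one_iff x).2 hmem, one_mul]

theorem blockRank_quot (hM : IsPModular p M) (hN : ¬ p ∣ Nat.card N) :
    blockRank p (principalBlock M (G ⧸ N)) = blockRank p (principalBlock M G) := by
  classical
  haveI := Fintype.ofFinite (G ⧸ N)
  rw [blockRank, blockRank, principalBlock_inflate N hM hN, Set.image_image]
  set S := Submodule.span ℂ
    ((fun χ : IrrCharacter (G ⧸ N) => pRegularPart p (χ : G ⧸ N → ℂ)) '' principalBlock M (G ⧸ N))
    with hS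
  have hcomm : (fun ψ : IrrCharacter (G ⧸ N) => pRegularPart p (Inflation.inflIrr N ψ : G → ℂ)) =
      fun ψ : IrrCharacter (G ⧸ N) => regPull p N (pRegularPart p (ψ : G ⧸ N → ℂ)) := by
    funext ψ g
    simp only [regPull, LinearMap.coe_mk, AddHom.coe_mk, pRegularPart_apply,
      Inflation.inflIrr_apply]
    split_ifs with h1 h2
    · rfl
    · exact absurd (h2.trans (orderOf_map_dvd (QuotientGroup.mk' N) g)) h1
    · rfl
  have hinj : ∀ f ∈ S, regPull p N f = 0 → f = 0 := by
    intro f hf h0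
    have hsupp : ∀ q : G ⧸ N, p ∣ orderOf q → f q = 0 := by
      refine Submodule.span_induction (fun f hf q hq => ?_) (fun q _ => rfl)
        (fun f g _ _ hf hg q hq => by rw [Pi.add_apply, hf q hq, hg q hq, add_zero])
        (fun r f _ hf q hq => by rw [Pi.smul_apply, hf q hq, smul_zero]) hf
      obtain ⟨ψ, -, rfl⟩ := hf
      show pRegularPart p _ q = 0
      rw [pRegularPart_apply, if_pos hq]
    funext q
    by_cases hq : p ∣ orderOf q
    · exact hsupp q hq
    · obtain ⟨g, rfl, hg⟩ := exists_regular_lift' N hM.1 hN hq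
      have := congrFun h0 g
      simpa [regPull, hg] using this
  rw [hcomm, ← Set.image_image (regPull p N)
    (fun χ : IrrCharacter (G ⧸ N) => pRegularPart p (χ : G ⧸ N → ℂ)), ← Submodule.map_span, ← hS]
  refine LinearEquiv.finrank_eq (LinearEquiv.ofBijective ((regPull p N).submoduleMap S) ⟨?_, ?_⟩)
  · intro a b hab
    have h := congrArg Subtype.val hab
    have h' : regPull p N ((a : G ⧸ N → ℂ) - b) = 0 := by
      rw [map_sub, sub_eq_zero]; exact h
    exact Subtype.ext (sub_eq_zero.1 (hinj _ (S.sub_mem a.2 b.2) h'))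
  · exact LinearMap.submoduleMap_surjective _ _

end quot

variable [Fact p.Prime] (P : Sylow p G)

/-- The image of the Sylow subgroup modulo the `p'`-core. -/
noncomputable def coreSylow : Sylow p (G ⧸ pPrimeCore p G) :=
  P.mapSurjective (QuotientGroup.mk'_surjective _)

theorem coe_coreSylow : (coreSylow P : Subgroup (G ⧸ pPrimeCore p G)) =
    (P : Subgroup G).map (QuotientGroup.mk' (pPrimeCore p G)) := rfl

theorem mk_injOn_sylow {a b : G} (ha : a ∈ (P : Subgroup G)) (hb : b ∈ (P : Subgroup G))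
    (h : (a : G ⧸ pPrimeCore p G) = (b : G ⧸ pPrimeCore p G)) : a = b := by
  obtain ⟨k, hk⟩ := IsPGroup.iff_card.1 P.2
  exact inv_mul_eq_one.1 (Subgroup.disjoint_def.1 (Subgroup.disjoint_of_coprime_natCard
    (by rw [hk]; exact (CfsgLib.card_pPrimeCore_coprime p).symm.pow_left k))
    ((P : Subgroup G).mul_mem ((P : Subgroup G).inv_mem ha) hb) (QuotientGroup.eq.1 h))

theorem coreSylow_comm (hab : ∀ x ∈ (P : Subgroup G), ∀ y ∈ (P : Subgroup G), x * y = y * x) :
    ∀ x ∈ (coreSylow P : Subgroup (G ⧸ pPrimeCore p G)), ∀ y ∈ (coreSylow P : Subgroup (G ⧸ pPrimeCore p G)), x * y = y * x := by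
  rintro _ ⟨a, ha, rfl⟩ _ ⟨b, hb, rfl⟩
  rw [← map_mul, ← map_mul, hab a ha b hb]

theorem card_coreSylow : Nat.card (coreSylow P) = Nat.card P := by
  symm
  refine Nat.card_congr (Equiv.ofBijective
    (fun a : (P : Subgroup G) => (⟨QuotientGroup.mk' _ a.1, a.1, a.2, rfl⟩ :
      (coreSylow P : Subgroup (G ⧸ pPrimeCore p G)))) ⟨fun a b h => ?_, ?_⟩)
  · exact Subtype.ext (mk_injOn_sylow P a.2 b.2 (congrArg Subtype.val h))
  · rintro ⟨_, a, ha, rfl⟩
    exact ⟨⟨a, ha⟩, rfl⟩

theorem mk_centralizes_iff {n : G} (hn : n ∈ Subgroup.normalizer ((P : Subgroup G) : Set G)) :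
    (n : G ⧸ pPrimeCore p G) ∈ Subgroup.centralizer ((coreSylow P : Subgroup (G ⧸ pPrimeCore p G)) : Set _) ↔
      n ∈ Subgroup.centralizer ((P : Subgroup G) : Set G) := by
  constructor
  · intro h x hx
    have h1 := h _ ⟨x, hx, rfl⟩
    have h2 := mk_injOn_sylow P ((Subgroup.mem_normalizer_iff.1 hn x).1 hx) hx (by
      rw [QuotientGroup.mk_mul, QuotientGroup.mk_mul, QuotientGroup.mk_inv]
      rw [QuotientGroup.mk'_apply] at h1
      rw [← h1, mul_inv_cancel_right])
    exact (mul_inv_eq_iff_eq_mul.1 h2).symm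
  · rintro h _ ⟨x, hx, rfl⟩
    rw [QuotientGroup.mk'_apply, ← QuotientGroup.mk_mul, ← QuotientGroup.mk_mul, h x hx]

theorem normalizer_coreSylow :
    Subgroup.normalizer ((coreSylow P : Subgroup (G ⧸ pPrimeCore p G)) : Set (G ⧸ pPrimeCore p G)) =
      (Subgroup.normalizer ((P : Subgroup G) : Set G)).map (QuotientGroup.mk' (pPrimeCore p G)) :=
  (PLocal.map_normalizer_eq _ (CfsgLib.card_pPrimeCore_coprime p) P.2).symm

theorem idx_coreSylow : idx (coreSylow P) = idx P := by
  have hC : Subgroup.centralizer ((P : Subgroup G) : Set G) ≤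
      Subgroup.normalizer ((P : Subgroup G) : Set G) := Subgroup.centralizer_le_normalizer _
  unfold idx
  rw [normalizer_coreSylow, ← Subgroup.relIndex_comap, ← Subgroup.inf_relIndex_right,
    ← Subgroup.inf_relIndex_right (H := Subgroup.centralizer ((P : Subgroup G) : Set G))]
  congr 1
  ext n
  constructor
  · rintro ⟨h1, h2⟩
    exact ⟨(mk_centralizes_iff P h2).1 h1, h2⟩
  · rintro ⟨h1, h2⟩
    exact ⟨(mk_centralizes_iff P h2).2 h1, h2⟩

theorem pPrimeCore_coreSylow : pPrimeCore p (G ⧸ pPrimeCore p G) = ⊥ :=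
  CfsgLib.pPrimeCore_quotient_eq_bot p

theorem not_dvd_core : ¬ p ∣ Nat.card (pPrimeCore p G) :=
  CfsgLib.not_dvd_card_pPrimeCore Fact.out

theorem solvable_of_quot_two {G : Type u} [Group G] [Finite G]
    (h : Group.IsSolvable (G ⧸ pPrimeCore 2 G)) : Group.IsSolvable G := by
  haveI := h
  haveI : Group.IsSolvable (pPrimeCore 2 G) :=
    CfsgLib.HallE8.isSolvable_of_odd (CfsgLib.not_dvd_card_pPrimeCore Nat.prime_two)
  exact CfsgLib.HallE8.isSolvable_of_ext _ inferInstance h

end CfsgLib.AbPrincipal
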