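import Cfsg.Agent.Lib.AbPrincipal.Basic

/-!
# Free and nearly free actions on the Sylow subgroup
-/

namespace CfsgLib.AbPrincipal

open Cfsg CfsgLib.CharTheory CfsgLib.Blocks

set_option linter.unusedVariables false
set_option linter.style.haveILetI false
set_option linter.unusedSectionVars false

universe u

variable {p : ℕ} {M : Ideal AlgInt} {G : Type u} [Group G] [Fintype G]

theorem blockRank_equiv {K L : Type u} [Group K] [Fintype K] [Group L] [Fintype L] (e : K ≃* L) :
    blockRank p (principalBlock M K) = blockRank p (principalBlock M L) := by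
  rw [blockRank, blockRank, ← image_principalBlock e, Set.image_image]
  have h : (fun χ : IrrCharacter L => pRegularPart p (irrPull e χ : K → ℂ)) =
      fun χ : IrrCharacter L => LinearEquiv.funCongrLeft ℂ ℂ e.toEquiv (pRegularPart p (χ : L → ℂ)) := by
    funext χ g
    simp only [pRegularPart, LinearEquiv.funCongrLeft_apply, LinearMap.funLeft_apply,
      IsPRegular, MulEquiv.coe_toEquiv]
    by_cases hg : p ∣ orderOf g <;> simp [hg, MulEquiv.orderOf_eq]
  rw [h, ← Set.image_image (LinearEquiv.funCongrLeft ℂ ℂ e.toEquiv)
    (fun χ : IrrCharacter L => pRegularPart p (χ : L → ℂ))]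
  erw [← Submodule.map_span]
  exact LinearEquiv.finrank_map_eq _ _

/-- The index of the centraliser of the Sylow subgroup in its normaliser. -/
noncomputable def idx (P : Sylow p G) : ℕ :=
  (Subgroup.centralizer ((P : Subgroup G) : Set G)).relIndex
    (Subgroup.normalizer ((P : Subgroup G) : Set G))

theorem card_normalizer (P : Sylow p G) :
    Nat.card (Subgroup.normalizer ((P : Subgroup G) : Set G)) =
      Nat.card (Subgroup.centralizer ((P : Subgroup G) : Set G)) * idx P := by
  rw [idx, Subgroup.relIndex,
    ← Subgroup.card_mul_index ((Subgroup.centralizer ((P : Subgroup G) : Set G)).subgroupOf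
      (Subgroup.normalizer ((P : Subgroup G) : Set G))),
    Nat.card_congr (Subgroup.subgroupOfEquivOfLe (Subgroup.centralizer_le_normalizer _)).toEquiv]

theorem idx_pos (P : Sylow p G) : 0 < idx P := Nat.pos_of_ne_zero fun h => by
  have := card_normalizer P
  rw [h, mul_zero] at this
  exact Nat.card_pos.ne' this

/-- Only the normaliser elements centralising `P` fix `y`. -/
def FreeAt (P : Sylow p G) (y : G) : Prop :=
  Subgroup.normalizer ((P : Subgroup G) : Set G) ⊓ Subgroup.centralizer ({y} : Set G) ≤
    Subgroup.centralizer ((P : Subgroup G) : Set G)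

variable [Fact p.Prime]

theorem counts_free (hM : IsPModular p M) (P : Sylow p G)
    (hab : ∀ x ∈ (P : Subgroup G), ∀ y ∈ (P : Subgroup G), x * y = y * x)
    (hP1 : (P : Subgroup G) ≠ ⊥)
    (hfree : ∀ y ∈ (P : Subgroup G), y ≠ 1 → FreeAt P y) :
    Nat.card (principalBlock M G) ≤ idx P + (Nat.card P - 1) / idx P ∧
      blockRank p (principalBlock M G) ≤ idx P ∧
      (Nat.card (principalBlock M G) = idx P + (Nat.card P - 1) / idx P ↔
        blockRank p (principalBlock M G) = idx P) ∧
      (idx P ≤ 3 → Nat.card (principalBlock M G) = idx P + (Nat.card P - 1) / idx P ∧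
        blockRank p (principalBlock M G) = idx P) := by
  haveI := Fintype.ofFinite (Subgroup.centralizer ((P : Subgroup G) : Set G))
  have hmax := principal_maximal hM P
  have hf : AbFree.FreeStab (P : Subgroup G)
      (principalBlock M (Subgroup.centralizer ((P : Subgroup G) : Set G))) := by
    intro t ht x hx hx1 htx
    rw [pairStab_principal hM] at ht
    refine hfree x hx hx1 ⟨ht, Subgroup.mem_centralizer_singleton_iff.2 ?_⟩
    exact mul_inv_eq_iff_eq_mul.1 htx
  obtain ⟨a, ha⟩ := AbFree.abData_of_free hM hmax hab hf
  have h := AbFree.counts ha hf hP1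
  rw [pairStab_principal hM] at h
  exact h

theorem lc_of_mem_center (hM : IsPModular p M) {u : G} (hu : u ∈ Subgroup.center G) :
    lc p M u = blockRank p (principalBlock M G) := by
  haveI := Fintype.ofFinite (Subgroup.centralizer ((Subgroup.zpowers u : Subgroup G) : Set G))
  have htop : Subgroup.centralizer ({u} : Set G) = ⊤ := by
    refine eq_top_iff.2 fun g _ => Subgroup.mem_centralizer_singleton_iff.2 ?_
    exact Subgroup.mem_center_iff.1 hu g
  rw [lc, blockRank_principal_congr htop]
  haveI := Fintype.ofFinite (⊤ : Subgroup G)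
  exact blockRank_equiv Subgroup.topEquiv

theorem lc_of_free (hM : IsPModular p M) (P : Sylow p G)
    (hab : ∀ x ∈ (P : Subgroup G), ∀ y ∈ (P : Subgroup G), x * y = y * x) {u : G}
    (hu : u ∈ (P : Subgroup G)) (h : FreeAt P u) : lc p M u = 1 := by
  haveI := Fintype.ofFinite (Subgroup.centralizer ({u} : Set G))
  exact blockRank_eq_one hM (complement_centralizer P hab hu h)

theorem card_inf_of_free (P : Sylow p G)
    (hab : ∀ x ∈ (P : Subgroup G), ∀ y ∈ (P : Subgroup G), x * y = y * x) {u : G}
    (hu : u ∈ (P : Subgroup G)) (h : FreeAt P u) :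
    Nat.card (Subgroup.normalizer ((P : Subgroup G) : Set G) ⊓
      Subgroup.centralizer ({u} : Set G) : Subgroup G) =
      Nat.card (Subgroup.centralizer ((P : Subgroup G) : Set G)) := by
  congr 1
  rw [le_antisymm h (le_inf (Subgroup.centralizer_le_normalizer _)
    (Subgroup.centralizer_le (Set.singleton_subset_iff.2 hu)))]

/-- When every element outside the centre is free, the count is arithmetic. -/
theorem count_central (hM : IsPModular p M) (P : Sylow p G)
    (hab : ∀ x ∈ (P : Subgroup G), ∀ y ∈ (P : Subgroup G), x * y = y * x)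
    (h : ∀ y ∈ (P : Subgroup G), y ∉ Subgroup.center G → FreeAt P y) :
    idx P * Nat.card (principalBlock M G) +
        Nat.card ((P : Subgroup G) ⊓ Subgroup.center G : Subgroup G) =
      Nat.card ((P : Subgroup G) ⊓ Subgroup.center G : Subgroup G) *
        (idx P * blockRank p (principalBlock M G)) + Nat.card P := by
  classical
  haveI : Fintype (P : Subgroup G) := Fintype.ofFinite _
  have hk := count hM P hab
  set Z : Subgroup G := (P : Subgroup G) ⊓ Subgroup.center G with hZ
  set N := Subgroup.normalizer ((P : Subgroup G) : Set G) with hN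
  set cP := Nat.card (Subgroup.centralizer ((P : Subgroup G) : Set G)) with hcP
  set l := blockRank p (principalBlock M G) with hl
  have hz : ∀ u : (P : Subgroup G), (u : G) ∈ Subgroup.center G →
      Nat.card (N ⊓ Subgroup.centralizer ({(u : G)} : Set G) : Subgroup G) * lc p M (u : G) =
        cP * (idx P * l) := fun u hu => by
    rw [lc_of_mem_center hM hu, show (N ⊓ Subgroup.centralizer ({(u : G)} : Set G)) = N from
      inf_eq_left.2 fun g _ => Subgroup.mem_centralizer_singleton_iff.2
        (Subgroup.mem_center_iff.1 hu g), card_normalizer, mul_assoc]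
  have hnz : ∀ u : (P : Subgroup G), (u : G) ∉ Subgroup.center G →
      Nat.card (N ⊓ Subgroup.centralizer ({(u : G)} : Set G) : Subgroup G) * lc p M (u : G) =
        cP := fun u hu => by
    rw [lc_of_free hM P hab u.2 (h u u.2 hu), mul_one, card_inf_of_free P hab u.2 (h u u.2 hu)]
  have hcount : (Finset.univ.filter fun u : (P : Subgroup G) => (u : G) ∈ Subgroup.center G).card =
      Nat.card Z := by
    rw [← Fintype.card_subtype, ← Nat.card_eq_fintype_card]
    exact Nat.card_congr ⟨fun u => ⟨u.1, u.1.2, u.2⟩, fun z => ⟨⟨z, z.2.1⟩, z.2.2⟩,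
      fun _ => rfl, fun _ => rfl⟩
  rw [← Finset.sum_filter_add_sum_filter_not _ (fun u : (P : Subgroup G) => (u : G) ∈ Subgroup.center G),
    Finset.sum_congr rfl (fun u hu => hz u (Finset.mem_filter.1 hu).2),
    Finset.sum_congr rfl (fun u hu => hnz u (Finset.mem_filter.1 hu).2),
    Finset.sum_const, Finset.sum_const, smul_eq_mul, smul_eq_mul, hcount, card_normalizer] at hk
  have htot := Finset.card_filter_add_card_filter_not
    (s := (Finset.univ : Finset (P : Subgroup G)))
    (fun u : (P : Subgroup G) => (u : G) ∈ Subgroup.center G)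
  rw [Finset.card_univ, ← Nat.card_eq_fintype_card, hcount] at htot
  refine Nat.eq_of_mul_eq_mul_left (Nat.card_pos (α := Subgroup.centralizer
    ((P : Subgroup G) : Set G))) ?_
  rw [← hcP, ← htot]
  nlinarith [hk]

end CfsgLib.AbPrincipal
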