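import Cfsg.Agent.Lib.AbPrincipal.Tools
import Cfsg.Agent.S3188
import Cfsg.Agent.S4551
import Cfsg.Agent.S4593
import Cfsg.Agent.Lib.SylowExtra

/-!
# The free case with trivial odd core
-/

namespace CfsgLib.AbPrincipal

open Cfsg CfsgLib.CharTheory CfsgLib.Blocks

set_option linter.unusedVariables false
set_option linter.style.haveILetI false
set_option linter.unusedSectionVars false

universe u

theorem oddCore_trivial {G : Type u} [Group G] (hO : pPrimeCore 2 G = ⊥) :
    Function.Bijective (QuotientGroup.mk' (oddCore G)) := by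
  refine ⟨(MonoidHom.ker_eq_bot_iff _).1 ?_, QuotientGroup.mk'_surjective _⟩
  rw [QuotientGroup.ker_mk']
  exact hO

theorem card_psl_odd_sylow {F : Type} [Field F] [Fintype F]
    (h : Fintype.card F % 8 = 3 ∨ Fintype.card F % 8 = 5)
    (S : Sylow 2 (Matrix.ProjectiveSpecialLinearGroup (Fin 2) F)) : Nat.card S = 4 := by
  haveI : Fact (Nat.Prime 2) := ⟨Nat.prime_two⟩
  have h0 := DicksonFull.card_psl (F := F)
  set q := Fintype.card F with hq
  have hg : Nat.gcd 2 (q - 1) = 2 := Nat.gcd_eq_left (by omega)
  rw [hg] at h0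
  set c := Nat.card (Matrix.ProjectiveSpecialLinearGroup (Fin 2) F) with hc
  obtain ⟨t, ht⟩ : ∃ t, q = 8 * t + 3 ∨ q = 8 * t + 5 := ⟨q / 8, by omega⟩
  obtain ⟨r, hr, hodd⟩ : ∃ r, c = 4 * r ∧ Odd r := by
    rcases ht with ht | ht
    · refine ⟨(8 * t + 3) * (4 * t + 1) * (2 * t + 1), ?_,
        ((Even.add_one ⟨4 * t + 1, by ring⟩).mul (Even.add_one ⟨2 * t, by ring⟩)).mul
          (Even.add_one ⟨t, by ring⟩)⟩
      have e : q ^ 2 - 1 = (8 * t + 2) * (8 * t + 4) := by
        rw [ht]; apply Nat.sub_eq_of_eq_add; ring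
      rw [e, ht] at h0
      nlinarith [h0]
    · refine ⟨(8 * t + 5) * (2 * t + 1) * (4 * t + 3), ?_,
        ((Even.add_one ⟨4 * t + 2, by ring⟩).mul (Even.add_one ⟨t, by ring⟩)).mul
          (Even.add_one ⟨2 * t + 1, by ring⟩)⟩
      have e : q ^ 2 - 1 = (8 * t + 4) * (8 * t + 6) := by
        rw [ht]; apply Nat.sub_eq_of_eq_add; ring
      rw [e, ht] at h0
      nlinarith [h0]
  rw [S.card_eq_multiplicity, ← hc, hr,
    Nat.factorization_mul (by norm_num) (by rcases hodd with ⟨a, rfl⟩; omega), Finsupp.add_apply,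
    Nat.factorization_eq_zero_of_not_dvd (n := r) (by rcases hodd with ⟨a, rfl⟩; omega), add_zero,
    show (4 : ℕ) = 2 ^ 2 by norm_num, Nat.prime_two.factorization_pow, Finsupp.single_eq_same]

theorem idx_equiv {p : ℕ} {K : Type u} {L : Type} [Group K] [Fintype K] [Group L] [Fintype L]
    (e : K ≃* L) (S : Sylow p K) (T : Sylow p L)
    (h : (S : Subgroup K).map (e : K →* L) = (T : Subgroup L)) : idx S = idx T := by
  unfold idx
  rw [← h, show Subgroup.normalizer (((S : Subgroup K).map (e : K →* L) : Subgroup L) : Set L) =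
    (Subgroup.normalizer ((S : Subgroup K) : Set K)).map (e : K →* L) from
      (Subgroup.map_equiv_normalizer_eq _ e).symm]
  have hc : Subgroup.centralizer (((S : Subgroup K).map (e : K →* L) : Subgroup L) : Set L) =
      (Subgroup.centralizer ((S : Subgroup K) : Set K)).map (e : K →* L) := by
    ext l
    constructor
    · intro hl
      refine ⟨e.symm l, fun x hx => ?_, e.apply_symm_apply l⟩
      have := congrArg e.symm (hl (e x) ⟨x, hx, rfl⟩)
      simpa using this
    · rintro ⟨x, hx, rfl⟩ _ ⟨y, hy, rfl⟩
      simpa using congrArg e (hx y hy)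
  rw [hc, Subgroup.relIndex_map_map_of_injective _ _ e.injective]

/-- The part of the normaliser inside a normal subgroup already induces the automiser. -/
theorem sup_centralizer_eq_top {p : ℕ} {G : Type u} [Group G] [Fintype G] [Fact p.Prime]
    (P : Sylow p G) (L : Subgroup G) [L.Normal] (hPL : (P : Subgroup G) ≤ L)
    (h : idx P ≤ idx (P.subtype hPL)) :
    L ⊔ Subgroup.centralizer ((P : Subgroup G) : Set G) = ⊤ := by
  classical
  set C := Subgroup.centralizer ((P : Subgroup G) : Set G) with hC
  set N := Subgroup.normalizer ((P : Subgroup G) : Set G) with hN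
  set NL := Subgroup.normalizer (((P.subtype hPL : Sylow p L) : Subgroup L) : Set L) with hNL
  set CL := Subgroup.centralizer (((P.subtype hPL : Sylow p L) : Subgroup L) : Set L) with hCL
  have hmemN : ∀ m : L, m ∈ NL ↔ (m : G) ∈ N := by
    intro m
    rw [hNL, Sylow.coe_subtype]
    constructor
    · intro hm
      refine Subgroup.mem_normalizer_iff.2 fun z => ⟨fun hz => ?_, fun hz => ?_⟩
      · exact Subgroup.mem_subgroupOf.1
          ((Subgroup.mem_normalizer_iff.1 hm ⟨z, hPL hz⟩).1 (Subgroup.mem_subgroupOf.2 hz))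
      · have hzL : z ∈ L := by
          have := Subgroup.Normal.conj_mem ‹L.Normal› _ (hPL hz) ((m : G))⁻¹
          simpa [mul_assoc] using this
        exact (Subgroup.mem_subgroupOf (K := L) (h := ⟨z, hzL⟩)).1
          ((Subgroup.mem_normalizer_iff.1 hm ⟨z, hzL⟩).2 (Subgroup.mem_subgroupOf.2 hz))
    · intro hm
      refine Subgroup.mem_normalizer_iff.2 fun z => ?_
      rw [Subgroup.mem_subgroupOf, Subgroup.mem_subgroupOf]
      exact Subgroup.mem_normalizer_iff.1 hm (z : G)
  have hmemC : ∀ m : L, m ∈ CL ↔ (m : G) ∈ C := by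
    intro m
    rw [hCL, Sylow.coe_subtype]
    constructor
    · intro hm x hx
      exact congrArg Subtype.val (hm ⟨x, hPL hx⟩ (Subgroup.mem_subgroupOf.2 hx))
    · intro hm x hx
      exact Subtype.ext (hm x (Subgroup.mem_subgroupOf.1 hx))
  haveI : (C.subgroupOf N).Normal := Subgroup.normal_subgroupOf_of_le_normalizer
    (normalizer_le_normalizer_cent (P : Subgroup G))
  let g : NL →* N :=
    { toFun := fun m => ⟨((m : L) : G), (hmemN _).1 m.2⟩
      map_one' := rfl
      map_mul' := fun _ _ => rfl }
  let f : NL →* N ⧸ C.subgroupOf N := (QuotientGroup.mk' _).comp g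
  have hker : f.ker = CL.subgroupOf NL := by
    ext m
    rw [MonoidHom.mem_ker, Subgroup.mem_subgroupOf, hmemC]
    exact QuotientGroup.eq_one_iff _
  have hrange : f.range = ⊤ := by
    refine Subgroup.eq_top_of_le_card _ ?_
    rw [← Subgroup.index_ker, hker, ← Subgroup.index_eq_card]
    exact h
  have hNle : N ≤ L ⊔ C := by
    intro n hn
    obtain ⟨m, hm⟩ : (QuotientGroup.mk' (C.subgroupOf N)) ⟨n, hn⟩ ∈ f.range := hrange ▸ trivial
    have h1 : ((g m)⁻¹ * ⟨n, hn⟩ : N) ∈ C.subgroupOf N := QuotientGroup.eq.1 hm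
    rw [Subgroup.mem_subgroupOf] at h1
    have h2 := Subgroup.mul_mem _ (Subgroup.mem_sup_left (T := C) (m : L).2)
      (Subgroup.mem_sup_right (S := L) h1)
    have e : ((m : L) : G) * (((g m)⁻¹ * ⟨n, hn⟩ : N) : G) = n := by
      show ((m : L) : G) * (((m : L) : G)⁻¹ * n) = n
      group
    rwa [e] at h2
  have hfr := Sylow.normalizer_sup_eq_top' P hPL
  rw [eq_top_iff, ← hfr]
  exact sup_le hNle le_sup_left

variable {M : Ideal AlgInt}

/-- The free case. -/
theorem free_case {G : Type u} [Group G] [Fintype G] (hM : IsPModular 2 M) (P : Sylow 2 G)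
    (hab : ∀ x ∈ (P : Subgroup G), ∀ y ∈ (P : Subgroup G), x * y = y * x)
    (hO : pPrimeCore 2 G = ⊥) (he : 1 < idx P)
    (hfree : ∀ y ∈ (P : Subgroup G), y ≠ 1 → FreeAt P y)
    (hcomm : ∀ a ∈ Subgroup.normalizer ((P : Subgroup G) : Set G),
      ∀ b ∈ Subgroup.normalizer ((P : Subgroup G) : Set G),
        a * b * a⁻¹ * b⁻¹ ∈ Subgroup.centralizer ((P : Subgroup G) : Set G)) :
    blockRank 2 (principalBlock M G) = idx P ∧
      (¬ Group.IsSolvable G → Nat.card P = idx P + 1) := by
  classical
  haveI : Fact (Nat.Prime 2) := ⟨Nat.prime_two⟩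
  have hP1 : (P : Subgroup G) ≠ ⊥ := by
    intro h
    have h1 : Subgroup.centralizer ((P : Subgroup G) : Set G) = ⊤ := by
      rw [eq_top_iff]
      intro g _ x hx
      rw [h, SetLike.mem_coe, Subgroup.mem_bot] at hx
      simp [hx]
    have h2 : (⊤ : Subgroup G).relIndex (Subgroup.normalizer ((P : Subgroup G) : Set G)) = 1 :=
      Subgroup.relIndex_top_left _
    rw [idx, h1, h2] at he
    omega
  obtain ⟨hk, hl, hiff, hsmall⟩ := counts_free hM P hab hP1 hfree
  have hmul : IsMulCommutative (P : Subgroup G) :=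
    ⟨⟨fun a b => Subtype.ext (hab a a.2 b b.2)⟩⟩
  have hC : ∀ t : G, orderOf t = 2 →
      Group.IsSolvable (Subgroup.centralizer ({t} : Set G)) := by
    intro t ht
    obtain ⟨Q, hQ⟩ := (IsPGroup.of_card (n := 1) (G := Subgroup.zpowers t)
      (by rw [Nat.card_zpowers, ht, pow_one])).exists_le_sylow
    obtain ⟨g, hg⟩ := MulAction.exists_smul_eq G Q P
    have hu : g * t * g⁻¹ ∈ (P : Subgroup G) := by
      rw [← hg, Sylow.coe_subgroup_smul]
      exact Subgroup.smul_mem_pointwise_smul _ (MulAut.conj g) _ (hQ (Subgroup.mem_zpowers t))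
    set u := g * t * g⁻¹ with hudef
    have hu1 : u ≠ 1 := by
      intro e
      rw [hudef, mul_inv_eq_one, mul_eq_left] at e
      rw [e, orderOf_one] at ht
      exact absurd ht (by norm_num)
    have hcpl := complement_centralizer P hab hu (hfree u hu hu1)
    obtain ⟨S, K, hK, hSK⟩ := hcpl
    haveI := hK
    have h1 : Group.IsSolvable K := HallE8.isSolvable_of_odd (by
      rw [← hSK.index_eq_card]; exact S.not_dvd_index)
    have h2 : Group.IsSolvable (Subgroup.centralizer ({u} : Set G) ⧸ K) := by
      obtain ⟨j, hj⟩ := S.2.exists_card_eq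
      have hq : IsPGroup 2 (Subgroup.centralizer ({u} : Set G) ⧸ K) :=
        IsPGroup.of_card (n := j) (by rw [← Subgroup.index_eq_card, hSK.symm.index_eq_card, hj])
      haveI := hq.isNilpotent
      infer_instance
    haveI := HallE8.isSolvable_of_ext K h1 h2
    have hmap := centralizer_map_singleton (MulAut.conj g) t
    rw [show (MulAut.conj g) t = u from rfl] at hmap
    exact Group.isSolvable_of_isSolvable_injective (G' := Subgroup.centralizer ({u} : Set G))
      (f := ((MulAut.conj g).toMonoidHom.comp (Subgroup.centralizer ({t} : Set G)).subtype).codRestrict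
        _ fun x => hmap ▸ ⟨(x : G), x.2, rfl⟩)
      fun a b e => Subtype.ext ((MulAut.conj g).injective (congrArg Subtype.val e))
  rcases Cfsg.Agent.S3188.result P hmul hC with hsol | ⟨F, instF, instFin, hq, L₀, hL₀, ⟨ψ⟩, hcL₀⟩
  · refine ⟨le_antisymm hl ?_, fun h => absurd hsol h⟩
    haveI := hsol
    have hO2 : pCore 2 G ≤ (P : Subgroup G) := pCore_le_sylow P
    have hle : (P : Subgroup G) ≤ pCore 2 G := fun x hx =>
      CfsgLib.centralizer_pCore_le Nat.prime_two hO fun y hy => hab y (hO2 hy) x hx
    haveI : (P : Subgroup G).Normal := by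
      rw [← le_antisymm hO2 hle]; infer_instance
    have hself : Subgroup.centralizer ((P : Subgroup G) : Set G) ≤ (P : Subgroup G) :=
      fun x hx => hO2 (CfsgLib.centralizer_pCore_le Nat.prime_two hO
        (Subgroup.centralizer_le (hO2) hx))
    have hPC : Subgroup.centralizer ((P : Subgroup G) : Set G) = (P : Subgroup G) :=
      le_antisymm hself fun x hx y hy => hab y hy x hx
    have hN : Subgroup.normalizer ((P : Subgroup G) : Set G) = ⊤ :=
      Subgroup.normalizer_eq_top _
    have hidx : idx P = (P : Subgroup G).index := by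
      rw [idx, hPC, hN, Subgroup.relIndex_top_right]
    rw [hidx]
    refine le_blockRank_abelian hM P hself fun a b => ?_
    obtain ⟨x, rfl⟩ := QuotientGroup.mk_surjective a
    obtain ⟨y, rfl⟩ := QuotientGroup.mk_surjective b
    have h1 := hPC ▸ hcomm x (hN ▸ trivial) y (hN ▸ trivial)
    have h2 := (QuotientGroup.eq_one_iff (N := (P : Subgroup G)) _).2 h1
    simpa [mul_inv_eq_iff_eq_mul] using h2
  · letI := instF
    letI := instFin
    have hbij := oddCore_trivial hO
    set π : G ≃* G ⧸ oddCore G := MulEquiv.ofBijective _ hbij with hπ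
    set L : Subgroup G := L₀.comap (π : G →* G ⧸ oddCore G) with hLdef
    haveI hLn : L.Normal := Subgroup.Normal.comap hL₀ _
    have hmapL : L.map (π : G →* G ⧸ oddCore G) = L₀ :=
      Subgroup.map_comap_eq_self_of_surjective π.surjective _
    let eL : L ≃* Matrix.ProjectiveSpecialLinearGroup (Fin 2) F :=
      ((π.subgroupMap L).trans (MulEquiv.subgroupCongr hmapL)).trans ψ
    have hcL : Subgroup.centralizer (L : Set G) = ⊥ := by
      refine (Subgroup.eq_bot_iff_forall _).2 fun x hx => ?_
      have : π x ∈ Subgroup.centralizer (L₀ : Set (G ⧸ oddCore G)) := by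
        intro y hy
        rw [← hmapL] at hy
        obtain ⟨z, hz, rfl⟩ := hy
        simpa using congrArg π (hx z hz)
      rw [hcL₀, Subgroup.mem_bot] at this
      exact π.injective (this.trans (map_one π).symm)
    haveI : Fintype L := Fintype.ofFinite _
    -- the Sylow subgroup lies in `L`
    set S₀ : Sylow 2 L := CfsgLib.sylowInfNormal P L
    have hS₀ : (S₀ : Subgroup L) = (P : Subgroup G).subgroupOf L := CfsgLib.coe_sylowInfNormal P L
    have hLc : Subgroup.center L = ⊥ := by
      refine (Subgroup.eq_bot_iff_forall _).2 fun z hz => Subtype.ext ?_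
      have : (z : G) ∈ Subgroup.centralizer (L : Set G) := fun y hy =>
        congrArg Subtype.val (Subgroup.mem_center_iff.1 hz ⟨y, hy⟩)
      rw [hcL, Subgroup.mem_bot] at this
      exact this
    have hPL : (P : Subgroup G) ≤ L := by
      intro r hr
      have hS₀c : IsMulCommutative (S₀ : Subgroup L) := ⟨⟨fun a b => Subtype.ext (Subtype.ext
        (hab _ (Subgroup.mem_subgroupOf.1 (hS₀.le a.2)) _ (Subgroup.mem_subgroupOf.1 (hS₀.le b.2))))⟩⟩
      obtain ⟨g, hg⟩ := Cfsg.Agent.S4593.result hLc (pPrimeCore_normal_eq_bot hO L) S₀ hS₀c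
        (MulAut.conjNormal r) (by
          obtain ⟨j, hj⟩ := IsPGroup.iff_orderOf.1 P.2 ⟨r, hr⟩
          rw [← Subgroup.orderOf_coe] at hj
          obtain ⟨i, -, hi⟩ := (Nat.dvd_prime_pow Nat.prime_two).1
            (hj ▸ orderOf_map_dvd (MulAut.conjNormal (H := L)) r)
          exact ⟨i, hi⟩)
        (fun x hx => Subtype.ext (by
          rw [MulAut.conjNormal_apply, hab r hr x (Subgroup.mem_subgroupOf.1 (hS₀.le hx)),
            mul_inv_cancel_right]))
      have : (g : G)⁻¹ * r ∈ Subgroup.centralizer (L : Set G) := by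
        intro y hy
        have h1 := congrArg Subtype.val (hg ⟨y, hy⟩)
        rw [MulAut.conjNormal_apply] at h1
        simp only [Subgroup.coe_mul, Subgroup.coe_inv] at h1
        calc y * ((g : G)⁻¹ * r) = (g : G)⁻¹ * ((g : G) * y * (g : G)⁻¹) * r := by group
          _ = (g : G)⁻¹ * (r * y * r⁻¹) * r := by rw [h1]
          _ = (g : G)⁻¹ * r * y := by group
      rw [hcL, Subgroup.mem_bot, inv_mul_eq_one] at this
      rw [← this]
      exact g.2
    set S := P.subtype hPL with hSdef
    have hcardS : Nat.card S = Nat.card P := by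
      rw [show Nat.card S = Nat.card ((P : Subgroup G).subgroupOf L) from rfl]
      exact Nat.card_congr (Subgroup.subgroupOfEquivOfLe hPL).toEquiv
    set SS : Sylow 2 (Matrix.ProjectiveSpecialLinearGroup (Fin 2) F) :=
      S.mapSurjective (f := (eL : L →* _)) eL.surjective with hSS
    have hcardSS : Nat.card SS = Nat.card P := by
      rw [← hcardS]
      exact Subgroup.card_map_of_injective eL.injective
    -- the index divides one less than the order
    have hdvd : idx P ∣ Nat.card P - 1 := by
      have hc := count_central hM P hab fun y hy hyc => hfree y hy fun e => hyc (e ▸ one_mem _)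
      have hZ : (P : Subgroup G) ⊓ Subgroup.center G = ⊥ := by
        refine (Subgroup.eq_bot_iff_forall _).2 fun z hz => by_contra fun hz1 => ?_
        have h1 := hfree z hz.1 hz1
        have h2 : Subgroup.normalizer ((P : Subgroup G) : Set G) ≤
            Subgroup.centralizer ((P : Subgroup G) : Set G) := fun n hn => h1 ⟨hn,
          Subgroup.mem_centralizer_singleton_iff.2 (Subgroup.mem_center_iff.1 hz.2 n)⟩
        rw [idx, Subgroup.relIndex_eq_one.2 h2] at he
        omega
      rw [hZ, Subgroup.card_bot, one_mul] at hc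
      have := Nat.card_pos (α := P)
      exact ⟨Nat.card (principalBlock M G) - blockRank 2 (principalBlock M G), by
        rw [Nat.mul_sub]; omega⟩
    rcases hq with ⟨hq8, hq5⟩ | ⟨n, hn, hqn⟩
    · have h4 : Nat.card P = 4 := hcardSS ▸ card_psl_odd_sylow hq8 SS
      rw [h4] at hdvd
      have := Nat.le_of_dvd (by norm_num) hdvd
      have h3 : idx P = 3 := by
        rcases (Nat.dvd_prime Nat.prime_three).1 hdvd with h | h <;> omega
      exact ⟨(hsmall (by omega)).2, fun _ => by omega⟩
    · haveI : CharP F 2 := charP_of_card_eq_prime_pow hqn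
      have h4 : 4 ≤ Fintype.card F := by
        rw [hqn]; exact le_trans (by norm_num) (Nat.pow_le_pow_right (by norm_num : 0 < 2) hn)
      set U := (PSL2.uSylow (F := F) 2 : Sylow 2 (Matrix.ProjectiveSpecialLinearGroup (Fin 2) F))
      have hPq : Nat.card P = Fintype.card F := by
        rw [← hcardSS, SS.card_eq_multiplicity, ← U.card_eq_multiplicity]
        exact DicksonFull.card_uSylow 2
      obtain ⟨g, hg⟩ := MulAction.exists_smul_eq
        (Matrix.ProjectiveSpecialLinearGroup (Fin 2) F) SS U
      have hidxS : idx S = idx U := idx_equiv (eL.trans (MulAut.conj g)) S U (by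
        rw [← hg, Sylow.coe_subgroup_smul]
        show (S : Subgroup L).map _ =
          ((S : Subgroup L).map (eL : L →* _)).map (MulAut.conj g).toMonoidHom
        rw [Subgroup.map_map]
        rfl)
      have h1 := torus_dvd (F := F)
      change _ ∣ idx U at h1
      rw [← hidxS] at h1
      have hposS := idx_pos S
      have h2 := Nat.le_of_dvd hposS h1
      have h3 : idx P ≤ Fintype.card F - 1 :=
        Nat.le_of_dvd (by omega) (hPq ▸ hdvd)
      have hsup := sup_centralizer_eq_top P L hPL (le_trans h3 h2)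
      have hidxL : ¬ 2 ∣ L.index := fun h => P.not_dvd_index (h.trans (Subgroup.index_dvd_of_le hPL))
      obtain ⟨hres, huni⟩ := Cfsg.Agent.S4551.result 2 M hM L hidxL P hsup
      have hkL : Nat.card (principalBlock M L) ≤ Nat.card (principalBlock M G) := by
        refine Nat.card_le_card_of_injective
          (fun θ => ⟨(huni θ θ.2).choose, (huni θ θ.2).choose_spec.1.1⟩) fun a b hab' => ?_
        have h := congrArg (fun χ : principalBlock M G => (χ.1 : G → ℂ)) hab'
        refine Subtype.ext (Subtype.ext (funext fun x => ?_))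
        rw [← (huni a a.2).choose_spec.1.2 x, ← (huni b b.2).choose_spec.1.2 x]
        exact congrFun h (x : G)
      have hkq : Fintype.card F ≤ Nat.card (principalBlock M G) := by
        refine le_trans ?_ hkL
        rw [card_principal_equiv eL]
        exact card_principal_psl hM h4
      have hpos := idx_pos P
      have he' : idx P = Fintype.card F - 1 := by
        -- the count forces the index to be maximal
        have hdiv : (Nat.card P - 1) / idx P * idx P = Nat.card P - 1 := Nat.div_mul_cancel hdvd
        refine le_antisymm h3 ?_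
        by_contra hlt
        push Not at hlt
        have hbig : Fintype.card F ≤ idx P + (Nat.card P - 1) / idx P := hkq.trans hk
        have hr : 2 ≤ (Nat.card P - 1) / idx P := by
          by_contra hr
          push Not at hr
          have := Nat.mul_le_mul_right (idx P) (Nat.le_of_lt_succ hr)
          omega
        rw [hPq] at hdiv hbig hr
        nlinarith [hdiv, hbig, hr, he, Nat.sub_add_cancel (show 1 ≤ Fintype.card F by omega)]
      have hkeq : Nat.card (principalBlock M G) = idx P + (Nat.card P - 1) / idx P := by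
        refine le_antisymm hk ?_
        rw [hPq, he', Nat.div_self (by omega)]
        omega
      exact ⟨hiff.1 hkeq, fun _ => by omega⟩

end CfsgLib.AbPrincipal
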