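import Mathlib

/-!
# A group of nine automorphisms of an abelian group of order sixteen
-/

namespace CfsgLib.AbPrincipal.NineAut

open Finset

variable {A : Type*} [CommGroup A] [Finite A] (E : Subgroup (MulAut A))

/-- The fixed points of a set of automorphisms. -/
def fixOf (K : Subgroup (MulAut A)) : Subgroup A where
  carrier := {a | ∀ β ∈ K, β a = a}
  one_mem' := fun β _ => map_one β
  mul_mem' := fun {a b} ha hb β hβ => by rw [map_mul, ha β hβ, hb β hβ]
  inv_mem' := fun {a} ha β hβ => by rw [map_inv, ha β hβ]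

/-- The elements of `E` fixing `a`. -/
def stab (a : A) : Subgroup (MulAut A) where
  carrier := {β | β ∈ E ∧ β a = a}
  one_mem' := ⟨E.one_mem, rfl⟩
  mul_mem' := fun {x y} hx hy => ⟨E.mul_mem hx.1 hy.1, by
    show x (y a) = a
    rw [hy.2, hx.2]⟩
  inv_mem' := fun {x} hx => ⟨E.inv_mem hx.1, by
    rw [MulAut.inv_apply, MulEquiv.symm_apply_eq, hx.2]⟩

/-- The orbit. -/
def orb (a : A) : Set A := {b | ∃ β ∈ E, β a = b}

theorem card_orb (a : A) : Nat.card (orb E a) * Nat.card (stab E a) = Nat.card E := by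
  haveI : Finite (MulAut A) := Finite.of_injective (fun β => ⇑β) DFunLike.coe_injective
  letI : MulAction E A :=
    { smul := fun β b => (β : MulAut A) b
      one_smul := fun _ => rfl
      mul_smul := fun _ _ _ => rfl }
  have h1 : MulAction.orbit E a = orb E a := by
    ext b
    exact ⟨fun ⟨β, h⟩ => ⟨β, β.2, h⟩, fun ⟨β, hβ, h⟩ => ⟨⟨β, hβ⟩, h⟩⟩
  have h2 : Nat.card (MulAction.stabilizer E a) = Nat.card (stab E a) :=
    Nat.card_congr ⟨fun β => ⟨β.1, β.1.2, β.2⟩, fun β => ⟨⟨β.1, β.2.1⟩, β.2.2⟩,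
      fun _ => rfl, fun _ => rfl⟩
  rw [← h1, ← h2, ← Nat.card_prod]
  exact Nat.card_congr ((Equiv.prodCongr (MulAction.orbitEquivQuotientStabilizer E a) (Equiv.refl _)).trans
    (Subgroup.groupEquivQuotientProdSubgroup (s := MulAction.stabilizer E a)).symm)

/-- The conclusion. -/
structure Split : Prop where
  main : ∃ V₁ V₂ : Subgroup A, Nat.card V₁ = 4 ∧ Nat.card V₂ = 4 ∧ Disjoint V₁ V₂ ∧
    (∀ β ∈ E, ∀ a ∈ V₁, β a ∈ V₁) ∧ (∀ β ∈ E, ∀ a ∈ V₂, β a ∈ V₂) ∧
    (∀ a ∈ V₁, a ≠ 1 → Nat.card (stab E a) = 3) ∧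
    (∀ a ∈ V₂, a ≠ 1 → Nat.card (stab E a) = 3) ∧
    (∀ a, a ∉ V₁ → a ∉ V₂ → Nat.card (stab E a) = 1) ∧
    (∀ a b, a ∉ V₁ → a ∉ V₂ → b ∉ V₁ → b ∉ V₂ → ∃ β ∈ E, β a = b)
  sq : ∀ a : A, a * a = 1

variable {E}

theorem eq_of_shift (h16 : Nat.card A = 16) (hE : Nat.card E = 9) {β : MulAut A} (hβ : β ∈ E)
    {a z : A} (hz : z ∈ fixOf E) (h : β a = z * a) : β a = a := by
  have hiter : ∀ j : ℕ, (β ^ j) a = z ^ j * a := by
    intro j
    induction j with
    | zero => simp
    | succ j ih =>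
      rw [pow_succ', MulAut.mul_apply, ih, map_mul, map_pow, hz β hβ, h, pow_succ, mul_assoc]
  have h9 : β ^ 9 = 1 := by
    have := pow_card_eq_one' (G := E) (x := ⟨β, hβ⟩)
    rw [hE] at this
    exact congrArg Subtype.val this
  have h1 := hiter 9
  rw [h9, MulAut.one_apply] at h1
  have hz9 : z ^ 9 = 1 := mul_eq_right.1 h1.symm
  have hz16 : z ^ 16 = 1 := h16 ▸ pow_card_eq_one'
  have : z = 1 := orderOf_eq_one_iff.1 (Nat.eq_one_of_dvd_coprimes
    (by norm_num : Nat.Coprime 9 16) (orderOf_dvd_of_pow_eq_one hz9) (orderOf_dvd_of_pow_eq_one hz16))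
  rw [h, this, one_mul]

theorem isPGroup_of_le (hE : Nat.card E = 9) {K : Subgroup (MulAut A)} (hK : K ≤ E) :
    IsPGroup 3 K := by
  haveI : Fact (Nat.Prime 3) := ⟨Nat.prime_three⟩
  exact (IsPGroup.of_card (p := 3) (n := 2) (G := E) (by rw [hE]; norm_num)).to_le hK

theorem card_fix_mod (hE : Nat.card E = 9) (W : Subgroup A) (hW : ∀ β ∈ E, ∀ a ∈ W, β a ∈ W) :
    Nat.card W % 3 = Nat.card (fixOf E ⊓ W : Subgroup A) % 3 := by
  haveI : Fact (Nat.Prime 3) := ⟨Nat.prime_three⟩
  letI : MulAction E W :=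
    { smul := fun β b => ⟨(β : MulAut A) b, hW β β.2 b b.2⟩
      one_smul := fun _ => rfl
      mul_smul := fun _ _ _ => rfl }
  rw [(isPGroup_of_le hE le_rfl).card_modEq_card_fixedPoints W]
  congr 1
  refine Nat.card_congr
    { toFun := fun a => ⟨a.1.1, fun β hβ => congrArg Subtype.val (a.2 ⟨β, hβ⟩), a.1.2⟩
      invFun := fun a => ⟨⟨a.1, a.2.2⟩, fun β => Subtype.ext (a.2.1 β β.2)⟩
      left_inv := fun _ => rfl
      right_inv := fun _ => rfl }

theorem eq_one_of_fix_all {β : MulAut A} (h : ∀ a, β a = a) : β = 1 := MulEquiv.ext h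

theorem card_stab_cases (hE : Nat.card E = 9) (a : A) :
    Nat.card (stab E a) = 1 ∨ Nat.card (stab E a) = 3 ∨ Nat.card (stab E a) = 9 := by
  have h : Nat.card (stab E a) ∣ 3 ^ 2 :=
    ⟨Nat.card (orb E a), by rw [mul_comm, card_orb, hE]; norm_num⟩
  obtain ⟨i, hi, e⟩ := (Nat.dvd_prime_pow Nat.prime_three).1 h
  rcases (by omega : i = 0 ∨ i = 1 ∨ i = 2) with rfl | rfl | rfl <;> simp [e]

theorem stab_eq_top_iff (hE : Nat.card E = 9) (a : A) :
    Nat.card (stab E a) = 9 ↔ a ∈ fixOf E := by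
  constructor
  · intro h β hβ
    have h' : stab E a = E := by
      haveI : Finite (MulAut A) := Finite.of_injective (fun β => ⇑β) DFunLike.coe_injective
      exact Subgroup.eq_of_le_of_card_ge (fun _ hx => hx.1) (by omega)
    rw [← h'] at hβ
    exact hβ.2
  · intro h
    have h' : stab E a = E := le_antisymm (fun _ hx => hx.1) fun β hβ => ⟨hβ, h β hβ⟩
    rw [h', hE]

theorem split (h16 : Nat.card A = 16) (hE : Nat.card E = 9) : Split E := by
  classical
  haveI : Finite (MulAut A) := Finite.of_injective (fun β => ⇑β) DFunLike.coe_injective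
  haveI : Fact (Nat.Prime 3) := ⟨Nat.prime_three⟩
  haveI := Fintype.ofFinite A
  have hcomm : ∀ x ∈ E, ∀ y ∈ E, x * y = y * x := by
    haveI : IsMulCommutative E := IsPGroup.isMulCommutative_of_card_eq_prime_sq (p := 3)
      (by rw [hE]; norm_num)
    intro x hx y hy
    exact congrArg Subtype.val (mul_comm' (⟨x, hx⟩ : E) ⟨y, hy⟩)
  -- there are no fixed points
  have hF : fixOf E = ⊥ := by
    set F := fixOf E with hFdef
    have hmod := card_fix_mod hE ⊤ fun _ _ _ _ => trivial
    rw [Subgroup.card_top, inf_top_eq, h16] at hmod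
    have hdvd : Nat.card F ∣ 2 ^ 4 := by
      have := Subgroup.card_subgroup_dvd_card F
      rwa [h16] at this
    obtain ⟨i, hi, e⟩ := (Nat.dvd_prime_pow Nat.prime_two).1 hdvd
    rw [e] at hmod
    rcases (by omega : i = 0 ∨ i = 1 ∨ i = 2 ∨ i = 3 ∨ i = 4) with rfl | rfl | rfl | rfl | rfl
    · exact Subgroup.card_eq_one.1 (by simpa using e)
    · norm_num at hmod
    · exfalso
      have hidx : Nat.card (A ⧸ F) = 4 := by
        have := Subgroup.card_eq_card_quotient_mul_card_subgroup F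
        rw [h16, e] at this
        omega
      obtain ⟨a, ha⟩ : ∃ a, a ∉ F := by
        by_contra hno
        push Not at hno
        have : F = ⊤ := eq_top_iff.2 fun a _ => hno a
        rw [this, Subgroup.card_top, h16] at e
        norm_num at e
      have hinj : Function.Injective
          (fun b : orb E a => ((b.1 : A) : A ⧸ F)) := by
        rintro ⟨b, β, hβ, rfl⟩ ⟨b', γ, hγ, rfl⟩ h
        have hz : (β a)⁻¹ * γ a ∈ F := QuotientGroup.eq.1 h
        refine Subtype.ext ?_
        have h2 := eq_of_shift h16 hE (E.mul_mem (E.inv_mem hβ) hγ) hz (a := a) (by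
          rw [MulAut.mul_apply, MulAut.inv_apply, MulEquiv.symm_apply_eq, map_mul, hz β hβ,
            mul_comm ((β a)⁻¹) (γ a), inv_mul_cancel_right])
        rw [MulAut.mul_apply, MulAut.inv_apply, MulEquiv.symm_apply_eq] at h2
        exact h2.symm
      have hne : ∀ b : orb E a, ((b.1 : A) : A ⧸ F) ≠ 1 := by
        rintro ⟨b, β, hβ, rfl⟩ h
        have hb : β a ∈ F := (QuotientGroup.eq_one_iff _).1 h
        refine ha ?_
        have : β⁻¹ (β a) = β a := hb β⁻¹ (E.inv_mem hβ)
        rw [MulAut.inv_apply, MulEquiv.symm_apply_apply] at this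
        rwa [← this] at hb
      have hle : Nat.card (orb E a) ≤ 3 := by
        have h := Nat.card_le_card_of_injective
          (fun b : orb E a => (⟨_, hne b⟩ : {q : A ⧸ F // q ≠ 1}))
          fun b b' h => hinj (congrArg Subtype.val h)
        have h3 : Nat.card {q : A ⧸ F // q ≠ 1} = 3 := by
          haveI := Fintype.ofFinite (A ⧸ F)
          rw [Nat.card_eq_fintype_card, Fintype.card_subtype_compl, Fintype.card_subtype_eq,
            ← Nat.card_eq_fintype_card, hidx]
        omega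
      have h3 := card_orb E a
      rw [hE] at h3
      rcases card_stab_cases hE a with hs | hs | hs
      · rw [hs] at h3; omega
      · rw [hs] at h3
        have horb : Nat.card (orb E a) = 3 := by omega
        -- the stabiliser of `a` fixes everything
        have hall : ∀ β ∈ stab E a, ∀ w, β w = w := by
          intro β hβ w
          by_cases hw : w ∈ F
          · exact hw β hβ.1
          · let f : orb E a → {q : A ⧸ F // q ≠ 1} := fun b => ⟨_, hne b⟩
            have hf : Function.Bijective f :=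
              Function.Injective.bijective_of_nat_card_le
                (fun b b' h => hinj (congrArg Subtype.val h)) (by
                  haveI := Fintype.ofFinite (A ⧸ F)
                  rw [horb, Nat.card_eq_fintype_card, Fintype.card_subtype_compl,
                    Fintype.card_subtype_eq, ← Nat.card_eq_fintype_card, hidx])
            obtain ⟨⟨b, γ, hγ, rfl⟩, hb⟩ := hf.2 ⟨(w : A ⧸ F), fun h =>
              hw ((QuotientGroup.eq_one_iff w).1 h)⟩
            have hz : (γ a)⁻¹ * w ∈ F := QuotientGroup.eq.1 (congrArg Subtype.val hb)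
            have h1 : β (γ a) = γ a := by
              rw [← MulAut.mul_apply, hcomm β hβ.1 γ hγ, MulAut.mul_apply, hβ.2]
            calc β w = β (γ a * ((γ a)⁻¹ * w)) := by rw [mul_inv_cancel_left]
              _ = γ a * ((γ a)⁻¹ * w) := by rw [map_mul, h1, hz β hβ.1]
              _ = w := mul_inv_cancel_left _ _
        have hbot : stab E a = ⊥ := (Subgroup.eq_bot_iff_forall _).2 fun β hβ =>
          eq_one_of_fix_all (hall β hβ)
        rw [hbot, Subgroup.card_bot] at hs
        omega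
      · exact ha ((stab_eq_top_iff hE a).1 hs)
    · norm_num at hmod
    · exfalso
      have hFt : F = ⊤ := Subgroup.eq_top_of_le_card _ (by rw [h16, e]; norm_num)
      have : E = ⊥ := (Subgroup.eq_bot_iff_forall _).2 fun β hβ => eq_one_of_fix_all fun a =>
        (show a ∈ fixOf E by rw [← hFdef, hFt]; trivial) β hβ
      rw [this, Subgroup.card_bot] at hE
      omega
  have hnine : ∀ a : A, a ≠ 1 → Nat.card (stab E a) ≠ 9 := fun a ha h =>
    ha (Subgroup.mem_bot.1 (hF ▸ (stab_eq_top_iff hE a).1 h))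
  -- an orbit inside a small set is not free twice
  have hstabmove : ∀ a : A, ∀ β ∈ E, stab E (β a) = stab E a := by
    intro a β hβ
    ext γ
    constructor
    · rintro ⟨h1, h2⟩
      refine ⟨h1, β.injective ?_⟩
      rw [← MulAut.mul_apply, hcomm β hβ γ h1, MulAut.mul_apply, h2]
    · rintro ⟨h1, h2⟩
      exact ⟨h1, by rw [← MulAut.mul_apply, hcomm γ h1 β hβ, MulAut.mul_apply, h2]⟩
  have horb9 : ∀ a : A, Nat.card (stab E a) = 1 → Nat.card (orb E a) = 9 := fun a h => by
    have h1 := card_orb E a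
    rw [h, hE, mul_one] at h1
    exact h1
  have hfew : ∀ (S : Set A), (∀ β ∈ E, ∀ a ∈ S, β a ∈ S) → S.ncard < 18 →
      (∀ a ∈ S, Nat.card (stab E a) = 1) → ∀ a ∈ S, S = orb E a := by
    intro S hS h18 hfree a ha
    have hsub : orb E a ⊆ S := by rintro _ ⟨β, hβ, rfl⟩; exact hS β hβ a ha
    refine (hsub.antisymm fun b hb => ?_).symm
    by_contra hba
    have hdis : Disjoint (orb E a) (orb E b) := by
      rw [Set.disjoint_left]
      rintro _ ⟨β, hβ, rfl⟩ ⟨γ, hγ, h⟩
      refine hba ⟨γ⁻¹ * β, E.mul_mem (E.inv_mem hγ) hβ, ?_⟩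
      rw [MulAut.mul_apply, ← h, MulAut.inv_apply, MulEquiv.symm_apply_apply]
    have h1 : (orb E a ∪ orb E b).ncard ≤ S.ncard :=
      Set.ncard_le_ncard (Set.union_subset hsub (by rintro _ ⟨β, hβ, rfl⟩; exact hS β hβ b hb))
    rw [Set.ncard_union_eq hdis, ← Nat.card_coe_set_eq, ← Nat.card_coe_set_eq, horb9 a (hfree a ha),
      horb9 b (hfree b hb)] at h1
    omega
  have hsize : ∀ a : A, a ≠ 1 → Nat.card (stab E a) = 3 → ∀ V : Subgroup A,
      V = fixOf (stab E a) → Nat.card V = 4 ∧ (∀ β ∈ E, ∀ b ∈ V, β b ∈ V) ∧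
        (∀ b ∈ V, b ≠ 1 → stab E b = stab E a) ∧ ∀ b ∈ V, b * b = 1 := by
    intro a ha h3 V hV
    subst hV
    set V := fixOf (stab E a)
    have hinv : ∀ β ∈ E, ∀ b ∈ V, β b ∈ V := by
      intro β hβ b hb γ hγ
      rw [← MulAut.mul_apply, hcomm γ hγ.1 β hβ, MulAut.mul_apply, hb γ hγ]
    have hmod := card_fix_mod hE V hinv
    rw [hF, bot_inf_eq, Subgroup.card_bot] at hmod
    have haV : a ∈ V := fun β hβ => hβ.2
    have h2 : 2 ≤ Nat.card V := by
      haveI : Nontrivial V := ⟨⟨⟨a, haV⟩, 1, fun e => ha (congrArg Subtype.val e)⟩⟩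
      exact Finite.one_lt_card
    have hne : Nat.card V ≠ 16 := by
      intro h
      have ht : V = ⊤ := Subgroup.eq_top_of_le_card _ (by rw [h16, h])
      have hb : stab E a = ⊥ := (Subgroup.eq_bot_iff_forall _).2 fun β hβ =>
        eq_one_of_fix_all fun b => (show b ∈ V by rw [ht]; trivial) β hβ
      rw [hb, Subgroup.card_bot] at h3
      omega
    have hdvd : Nat.card V ∣ 2 ^ 4 := by
      have := Subgroup.card_subgroup_dvd_card V
      rwa [h16] at this
    obtain ⟨i, hi, e⟩ := (Nat.dvd_prime_pow Nat.prime_two).1 hdvd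
    have h4 : Nat.card V = 4 := by
      rw [e] at hmod h2 hne ⊢
      rcases (by omega : i = 0 ∨ i = 1 ∨ i = 2 ∨ i = 3 ∨ i = 4) with rfl | rfl | rfl | rfl | rfl
      all_goals first | rfl | omega | (revert hmod h2 hne; norm_num)
    have hst : ∀ b ∈ V, b ≠ 1 → stab E b = stab E a := by
      intro b hb hb1
      have hle : stab E a ≤ stab E b := fun β hβ => ⟨hβ.1, hb β hβ⟩
      refine (Subgroup.eq_of_le_of_card_ge hle ?_).symm
      rcases card_stab_cases hE b with h | h | h
      · omega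
      · omega
      · exact absurd h (hnine b hb1)
    refine ⟨h4, hinv, hst, ?_⟩
    -- all nontrivial elements are conjugate, so involutions
    have horb : Nat.card (orb E a) = 3 := by
      have h := card_orb E a
      rw [h3, hE] at h
      omega
    haveI : Fact (Nat.Prime 2) := ⟨Nat.prime_two⟩
    obtain ⟨t, ht⟩ := exists_prime_orderOf_dvd_card' (G := V) 2 (by rw [h4]; norm_num)
    have ht1 : (t : A) ≠ 1 := by
      intro e
      rw [show t = 1 from Subtype.ext e, orderOf_one] at ht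
      omega
    have ht3 : Nat.card (orb E (t : A)) = 3 := by
      have h := card_orb E (t : A)
      rw [hst t t.2 ht1, h3, hE] at h
      omega
    have hall : orb E (t : A) = (V : Set A) \ {1} := by
      refine Set.eq_of_subset_of_ncard_le ?_ ?_ (Set.toFinite _)
      · rintro _ ⟨β, hβ, rfl⟩
        refine ⟨hinv β hβ t t.2, fun e => ht1 ?_⟩
        exact β.injective (e.trans (map_one β).symm)
      · rw [Set.ncard_sdiff_singleton_of_mem V.one_mem, ← Nat.card_coe_set_eq (V : Set A),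
          ← Nat.card_coe_set_eq (orb E (t : A)), ht3]
        exact le_of_eq (show Nat.card V - 1 = 3 by omega)
    intro b hb
    by_cases hb1 : b = 1
    · rw [hb1, one_mul]
    · obtain ⟨β, hβ, rfl⟩ : b ∈ orb E (t : A) := hall ▸ ⟨hb, hb1⟩
      have htt : (t : A) * t = 1 := by
        have h2 := pow_orderOf_eq_one t
        rw [ht, pow_two] at h2
        exact congrArg Subtype.val h2
      rw [← map_mul, htt, map_one]
  -- a first fixed line
  obtain ⟨a, ha1, ha3⟩ : ∃ a : A, a ≠ 1 ∧ Nat.card (stab E a) = 3 := by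
    by_contra hno
    push Not at hno
    have hfree : ∀ a ∈ ({1}ᶜ : Set A), Nat.card (stab E a) = 1 := fun a ha => by
      rcases card_stab_cases hE a with h | h | h
      exacts [h, absurd h (hno a ha), absurd h (hnine a ha)]
    have hcard : ({1}ᶜ : Set A).ncard = 15 := by
      rw [Set.ncard_compl, Set.ncard_singleton, h16]
    obtain ⟨a, ha⟩ : ({1}ᶜ : Set A).Nonempty :=
      Set.nonempty_of_ncard_ne_zero (by omega)
    have hinv1 : ∀ β ∈ E, ∀ b ∈ ({1}ᶜ : Set A), β b ∈ ({1}ᶜ : Set A) := fun β _ b hb e =>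
      hb (β.injective (Eq.trans e (map_one β).symm))
    have h := hfew _ hinv1 (by omega)
      hfree a ha
    rw [h, ← Nat.card_coe_set_eq, horb9 a (hfree a ha)] at hcard
    omega
  obtain ⟨c1, i1, s1, q1⟩ := hsize a ha1 ha3 _ rfl
  set V₁ := fixOf (stab E a) with hV₁
  obtain ⟨b, hbV, hb3⟩ : ∃ b : A, b ∉ V₁ ∧ Nat.card (stab E b) = 3 := by
    by_contra hno
    push Not at hno
    have hfree : ∀ b ∈ (V₁ : Set A)ᶜ, Nat.card (stab E b) = 1 := fun b hb => by
      rcases card_stab_cases hE b with h | h | h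
      exacts [h, absurd h (hno b hb), absurd h (hnine b fun e => hb (e ▸ V₁.one_mem))]
    have hcard : (V₁ : Set A)ᶜ.ncard = 12 := by
      rw [Set.ncard_compl, h16, ← Nat.card_coe_set_eq]
      exact show 16 - Nat.card V₁ = 12 by omega
    obtain ⟨b, hb⟩ : ((V₁ : Set A)ᶜ).Nonempty := Set.nonempty_of_ncard_ne_zero (by omega)
    have hinv1 : ∀ β ∈ E, ∀ w ∈ (V₁ : Set A)ᶜ, β w ∈ (V₁ : Set A)ᶜ := fun β hβ w hw hc => hw (by
      have := i1 β⁻¹ (E.inv_mem hβ) _ hc
      rwa [MulAut.inv_apply, MulEquiv.symm_apply_apply] at this)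
    have h := hfew _ hinv1 (by omega) hfree b hb
    rw [h, ← Nat.card_coe_set_eq, horb9 b (hfree b hb)] at hcard
    omega
  have hb1 : b ≠ 1 := fun e => hbV (e ▸ V₁.one_mem)
  obtain ⟨c2, i2, s2, q2⟩ := hsize b hb1 hb3 _ rfl
  set V₂ := fixOf (stab E b) with hV₂
  have hdist : stab E a ≠ stab E b := fun e => hbV (show b ∈ fixOf (stab E a) from
    e ▸ fun β hβ => hβ.2)
  have hdis : Disjoint V₁ V₂ := Subgroup.disjoint_def.2 fun {w} h1 h2 => by
    by_contra hw
    exact hdist ((s1 w h1 hw).symm.trans (s2 w h2 hw))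
  have hprod : Function.Bijective (fun v : V₁ × V₂ => (v.1 : A) * v.2) :=
    Function.Injective.bijective_of_nat_card_le (Subgroup.mul_injective_of_disjoint hdis)
      (by rw [Nat.card_prod, c1, c2, h16])
  have hfree : ∀ c, c ∉ V₁ → c ∉ V₂ → Nat.card (stab E c) = 1 := by
    intro c hc1 hc2
    obtain ⟨⟨v, w⟩, rfl⟩ := hprod.2 c
    have hv : (v : A) ≠ 1 := fun e => hc2 (by show (v : A) * w ∈ V₂; rw [show (v : A) * w = w by rw [e, one_mul]]; exact w.2)
    have hw : (w : A) ≠ 1 := fun e => hc1 (by show (v : A) * w ∈ V₁; rw [show (v : A) * w = v by rw [e, mul_one]]; exact v.2)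
    have hle : stab E ((v : A) * w) ≤ stab E a ⊓ stab E b := by
      intro β hβ
      have h := hprod.1 (a₁ := (⟨β v, i1 β hβ.1 v v.2⟩, ⟨β w, i2 β hβ.1 w w.2⟩)) (a₂ := (v, w))
        (by show β v * β w = v * w; rw [← map_mul, hβ.2])
      exact ⟨s1 v v.2 hv ▸ ⟨hβ.1, congrArg (fun p : V₁ × V₂ => (p.1 : A)) h⟩,
        s2 w w.2 hw ▸ ⟨hβ.1, congrArg (fun p : V₁ × V₂ => (p.2 : A)) h⟩⟩
    rcases card_stab_cases hE ((v : A) * w) with h | h | h
    · exact h
    · exfalso
      have h1 := Subgroup.eq_of_le_of_card_ge (hle.trans inf_le_left) (by omega)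
      have h2 := Subgroup.eq_of_le_of_card_ge (hle.trans inf_le_right) (by omega)
      exact hdist (h1.symm.trans h2)
    · exfalso
      have h1 := Subgroup.card_le_of_le (hle.trans inf_le_left)
      omega
  refine ⟨⟨V₁, V₂, c1, c2, hdis, i1, i2, fun c hc hc1 => by rw [s1 c hc hc1, ha3],
    fun c hc hc1 => by rw [s2 c hc hc1, hb3], hfree, ?_⟩, ?_⟩
  · intro c d hc1 hc2 hd1 hd2
    set S : Set A := {w | w ∉ V₁ ∧ w ∉ V₂}
    have hinvS : ∀ β ∈ E, ∀ w ∈ S, β w ∈ S := by
      intro β hβ w hw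
      refine ⟨fun h => hw.1 ?_, fun h => hw.2 ?_⟩
      · have := i1 β⁻¹ (E.inv_mem hβ) _ h
        rwa [MulAut.inv_apply, MulEquiv.symm_apply_apply] at this
      · have := i2 β⁻¹ (E.inv_mem hβ) _ h
        rwa [MulAut.inv_apply, MulEquiv.symm_apply_apply] at this
    have h18 : S.ncard < 18 := lt_of_le_of_lt (Set.ncard_le_card _) (by omega)
    exact (hfew S hinvS h18 (fun w hw => hfree w hw.1 hw.2) c ⟨hc1, hc2⟩).subset
      (show d ∈ S from ⟨hd1, hd2⟩)
  · intro c
    obtain ⟨⟨v, w⟩, rfl⟩ := hprod.2 c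
    show (v : A) * w * (v * w) = 1
    rw [mul_mul_mul_comm, q1 v v.2, q2 w w.2, one_mul]

end CfsgLib.AbPrincipal.NineAut
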