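import Cfsg.Agent.Lib.AbPrincipal.Basic
import Cfsg.Agent.Lib.Blocks.Star.Stable
import Cfsg.Agent.Lib.CharTheory.Coherence
import Cfsg.Agent.Lib.Blocks.FirstMain

/-!
# The star action of stable functions on the principal block
-/

namespace CfsgLib.AbPrincipal

open Cfsg CfsgLib.CharTheory CfsgLib.Blocks
open scoped ComplexConjugate

set_option linter.unusedVariables false
set_option linter.style.haveILetI false
set_option linter.unusedSectionVars false

universe u

variable {p : ℕ} {M : Ideal AlgInt} {G : Type u} [Group G] [Fintype G]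

/-- Stability for the principal maximal pair. -/
abbrev Stable (p : ℕ) (M : Ideal AlgInt) (P : Subgroup G) (η : G → ℂ) : Prop :=
  IsStableFun p M P (principalBlock M (Subgroup.centralizer (P : Set G))) η

/-- The weight of `η` on the pairs of the principal block. -/
noncomputable abbrev wt (p : ℕ) (M : Ideal AlgInt) (P : Subgroup G) (η : G → ℂ) :
    BrauerPairIdx G → G → ℂ :=
  pairW p M P (principalBlock M (Subgroup.centralizer (P : Set G))) η

/-- The matrix of the star action of `η`. -/
noncomputable def sI (p : ℕ) (M : Ideal AlgInt) (P : Subgroup G) (η : G → ℂ)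
    (χ ψ : IrrCharacter G) : ℂ :=
  classInner (starFun p M (wt p M P η) (χ : G → ℂ)) (ψ : G → ℂ)

variable {P : Subgroup G}

theorem wt_add (η η' : G → ℂ) : wt p M P (η + η') = wt p M P η + wt p M P η' := by
  classical
  funext a x
  simp only [wt, pairW, Pi.add_apply]
  split <;> simp

theorem wt_smul (r : ℂ) (η : G → ℂ) : wt p M P (r • η) = r • wt p M P η := by
  classical
  funext a x
  simp only [wt, pairW, Pi.smul_apply]
  split <;> simp

theorem sI_add (η η' : G → ℂ) (χ ψ : IrrCharacter G) :
    sI p M P (η + η') χ ψ = sI p M P η χ ψ + sI p M P η' χ ψ := by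
  rw [sI, sI, sI, ← classInner_add_left]
  congr 1
  funext g
  simp only [starFun, wt_add, Pi.add_apply, add_mul, Finset.sum_add_distrib]

theorem sI_smul (r : ℂ) (η : G → ℂ) (χ ψ : IrrCharacter G) :
    sI p M P (r • η) χ ψ = r * sI p M P η χ ψ := by
  rw [sI, sI, ← classInner_smul_left]
  congr 1
  funext g
  simp only [starFun, wt_smul, Pi.smul_apply, smul_eq_mul, Finset.mul_sum]
  exact Finset.sum_congr rfl fun a _ => by simp [mul_assoc, Finset.mul_sum]

theorem sI_congr {η η' : G → ℂ} (h : ∀ y ∈ P, η y = η' y) (χ ψ : IrrCharacter G) :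
    sI p M P η χ ψ = sI p M P η' χ ψ := by
  rw [sI, sI, show wt p M P η = wt p M P η' from funext fun a => funext fun x => pairW_congr h a x]

theorem sI_int (hM : IsPModular p M)
    (hmax : IsMaximalBrauerPair p M (principalBlock M G) P
      (principalBlock M (Subgroup.centralizer (P : Set G))))
    {η : G → ℂ} (hη : Stable p M P η) (hgen : IsGeneralizedCharacter P fun u : P => η u)
    (χ ψ : IrrCharacter G) : ∃ z : ℤ, sI p M P η χ ψ = z :=
  classInner_genChar_int (starW_genChar hM hmax hη hgen χ)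
    (isGenChar_of_char (isCharacter_of_irr ψ.2))

variable (hM : IsPModular p M)
  (hmax : IsMaximalBrauerPair p M (principalBlock M G) P
    (principalBlock M (Subgroup.centralizer (P : Set G))))

include hM hmax

theorem sI_one {η : G → ℂ} (h : ∀ y ∈ P, η y = 1) {χ : IrrCharacter G}
    (hχ : χ ∈ principalBlock M G) (ψ : IrrCharacter G) [Decidable (χ = ψ)] :
    sI p M P η χ ψ = if χ = ψ then 1 else 0 := by
  classical
  rw [sI, starFun_one hM principalBlock_isPBlock hχ
    fun x a ha hx hp => pairW_eq_of_eqOn hM hmax h (mem_pairsAt.1 ha).1 hp,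
    classInner_irr χ.2 ψ.2]
  by_cases e : χ = ψ
  · rw [if_pos (congrArg Subtype.val e), if_pos e]
  · rw [if_neg fun h => e (Subtype.ext h), if_neg e]

/-- The star function lies in the span of the block. -/
theorem sI_off {η : G → ℂ} {χ ψ : IrrCharacter G}
    (hχ : χ ∈ principalBlock M G) (hψ : ψ ∉ principalBlock M G) :
    sI p M P η χ ψ = 0 := by
  classical
  set B' := blockOf M (ψ : G → ℂ)
  have hB' : IsPBlock M B' := blockOf_isPBlock ψ
  have hψ' : ψ ∈ B' := mem_blockOf_self hM ψ
  have e : starFun p M (fun _ _ => (1 : ℂ)) (ψ : G → ℂ) = (ψ : G → ℂ) :=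
    starFun_one hM hB' hψ' fun _ _ _ _ _ => rfl
  rw [sI, ← e, classInner_starFun hM (irr_isClassFun χ) (irr_isClassFun ψ)]
  rw [Finset.sum_eq_zero, mul_zero]
  intro x hx
  refine Finset.sum_eq_zero fun a ha => ?_
  rw [pairT, Finset.sum_eq_zero, mul_zero]
  intro c hc
  by_cases hp : IsBrauerPairOf p M (principalBlock M G) a.1 a.2
  · have hn : ¬ IsBrauerPairOf p M B' a.1 a.2 := fun h =>
      hψ (pairOf_block_unique hM hp h ▸ hψ')
    rw [pairVal_off hM hB' hψ' (mem_qElts.1 hx) ha hn hc, map_zero, mul_zero]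
  · rw [pairVal_off hM principalBlock_isPBlock hχ (mem_qElts.1 hx) ha hp hc, zero_mul]

/-- Products of stable functions correspond to products of matrices. -/
theorem sI_mul (η : G → ℂ) {η' : G → ℂ} (hη' : Stable p M P η') {χ ψ : IrrCharacter G}
    (hχ : χ ∈ principalBlock M G) (hψ : ψ ∈ principalBlock M G)
    [Fintype {r // r ∈ principalBlock M G}] :
    ∑ r : {r // r ∈ principalBlock M G}, sI p M P η χ r * conj (sI p M P η' ψ r) =
      sI p M P (fun g => η g * conj (η' g)) χ ψ := by
  classical
  have hcl : ∀ r : IrrCharacter G, IsClassFunction G (r : G → ℂ) := irr_isClassFun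
  have h1 : ∀ r : IrrCharacter G, starFun p M (wt p M P (fun _ : G => (1 : ℂ))) (ψ : G → ℂ) =
      (ψ : G → ℂ) := fun r => starFun_one hM principalBlock_isPBlock hψ
        fun x a ha hx hp => pairW_eq_of_eqOn hM hmax (fun y _ => rfl) (mem_pairsAt.1 ha).1 hp
  have h2 : classInner (starFun p M (wt p M P η) (χ : G → ℂ))
      (starFun p M (wt p M P η') (ψ : G → ℂ)) = sI p M P (fun g => η g * conj (η' g)) χ ψ := by
    rw [sI]
    nth_rw 2 [← h1 ψ]
    rw [classInner_starFun hM (hcl χ) (hcl ψ), classInner_starFun hM (hcl χ) (hcl ψ)]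
    congr 1
    refine Finset.sum_congr rfl fun x _ => Finset.sum_congr rfl fun a _ => ?_
    congr 1
    simp only [wt, pairW_star, pairW_mul]
    congr 1
    funext g
    simp
  have h3 : IsClassFunction G (starFun p M (wt p M P η') (ψ : G → ℂ)) :=
    starFun_classFun hM (pairW_conjInv hη') (hcl ψ)
  rw [← h2, ← classInner_comm (starFun p M (wt p M P η') (ψ : G → ℂ)),
    classInner_eq_sum_irr h3, map_sum]
  have hsub : ∑ r : {r // r ∈ principalBlock M G}, sI p M P η χ r * conj (sI p M P η' ψ r) =
      ∑ r ∈ Finset.univ.filter (fun r => r ∈ principalBlock M G),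
        sI p M P η χ r * conj (sI p M P η' ψ r) := by
    refine (Finset.sum_subtype _ (fun r => ?_) (fun r => sI p M P η χ r * conj (sI p M P η' ψ r))).symm
    simp
  rw [hsub, Finset.sum_filter_of_ne fun r _ hr => by
    by_contra h
    exact hr (by rw [sI_off hM hmax hχ h, zero_mul])]
  refine Finset.sum_congr rfl fun r _ => ?_
  simp only [sI, map_mul, classInner_comm]
  exact mul_comm _ _

/-- A function carried by one class acts through the section values. -/
theorem sI_section [Fact p.Prime] (S : Sylow p G) (hS : (S : Subgroup G) = P) {y : G}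
    (hy : y ∈ P) (hyP : P ≤ Subgroup.centralizer ({y} : Set G))
    (hC : HasNormalPComplement p (Subgroup.centralizer ({y} : Set G))) {η : G → ℂ}
    (hη : IsClassFunction G η) (hsupp : ∀ g, ¬ IsConj y g → η g = 0) (hval : η y = Nat.card P)
    {χ ψ : IrrCharacter G} (hχ : χ ∈ principalBlock M G) (hψ : ψ ∈ principalBlock M G) :
    sI p M P η χ ψ = (χ : G → ℂ) y * conj ((ψ : G → ℂ) y) := by
  classical
  have hst : Stable p M P η := fun g x a _ _ _ => hη x g
  have hord : ∃ k : ℕ, orderOf y = p ^ k := by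
    obtain ⟨k, hk⟩ := IsPGroup.iff_orderOf.1 (hmax.1.1.1) ⟨y, hy⟩
    exact ⟨k, by rw [← hk, ← Subgroup.orderOf_coe]⟩
  -- the star function on sections
  have hF : ∀ x c : G, (∃ k, orderOf x = p ^ k) → c ∈ regC p x →
      starFun p M (wt p M P η) (χ : G → ℂ) (x * c) = η x * (χ : G → ℂ) (x * c) := by
    intro x c hx hc
    refine starFun_section hM principalBlock_isPBlock hχ hx hc fun a ha hp => ?_
    obtain ⟨g, hg⟩ := (carries_iff_pairOf hM hmax).2 hp
    rw [wt, pairW_eq hst (mem_pairsAt.1 ha).1 hg, hη]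
  have hsec : ∀ c ∈ regC p y, ∀ r ∈ principalBlock M G,
      (r : IrrCharacter G).1 (y * c) = (r : G → ℂ) y := fun c hc r hr =>
    section_const hM hord hC hr (mem_regC.1 hc).1 (mem_regC.1 hc).2
  have hcard : (regC p y).card * Nat.card P =
      Nat.card (Subgroup.centralizer ({y} : Set G)) := by
    haveI := Fintype.ofFinite (Subgroup.centralizer ({y} : Set G))
    obtain ⟨T, K, hKn, hcpl⟩ := hC
    haveI := hKn
    have hK : ¬ p ∣ Nat.card K := by
      rw [← hcpl.index_eq_card]
      exact T.not_dvd_index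
    have hidx : K.index = Nat.card T := hcpl.symm.index_eq_card
    have hTP : Nat.card T = Nat.card P := by
      rw [Sylow.card_eq_multiplicity]
      subst hS
      have := (S.subtype hyP).card_eq_multiplicity
      rw [Sylow.coe_subtype, Nat.card_congr (Subgroup.subgroupOfEquivOfLe hyP).toEquiv] at this
      exact this.symm
    obtain ⟨j, hj⟩ := T.2.exists_card_eq
    have hreg := AbelianFree.mem_iff_regular (p := p) hM.1 hK (hidx.trans hj)
    have e : (regC p y).card = Nat.card K := by
      rw [Nat.card_eq_fintype_card, ← Finset.card_univ]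
      symm
      refine Finset.card_bij (fun (c : K) _ => ((c : Subgroup.centralizer ({y} : Set G)) : G))
        (fun c _ => ?_) (fun a _ b _ h => Subtype.ext (Subtype.ext h)) (fun c hc => ?_)
      · refine mem_regC.2 ⟨(Subgroup.mem_centralizer_singleton_iff.1 c.1.2).symm, ?_⟩
        rw [Subgroup.orderOf_coe]
        exact (hreg _).1 c.2
      · have hcC : c ∈ Subgroup.centralizer ({y} : Set G) :=
          Subgroup.mem_centralizer_singleton_iff.2 (mem_regC.1 hc).1.symm.eq
        exact ⟨⟨⟨c, hcC⟩, (hreg _).2 (by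
          rw [← Subgroup.orderOf_coe]; exact (mem_regC.1 hc).2)⟩, Finset.mem_univ _, rfl⟩
    rw [e, ← hTP, ← hidx]
    exact Subgroup.card_mul_index K
  have hstcl : IsClassFunction G (starFun p M (wt p M P η) (χ : G → ℂ)) :=
    starFun_classFun hM (pairW_conjInv hst) (irr_isClassFun χ)
  have hin : ∀ x : G, IsConj y x →
      ∑ c ∈ regC p x, starFun p M (wt p M P η) (χ : G → ℂ) (x * c) * conj ((ψ : G → ℂ) (x * c)) =
        ((regC p y).card * Nat.card P : ℕ) * ((χ : G → ℂ) y * conj ((ψ : G → ℂ) y)) := by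
    intro x hx
    obtain ⟨t, rfl⟩ := isConj_iff.1 hx
    have hbij : ∑ c ∈ regC p (t * y * t⁻¹), starFun p M (wt p M P η) (χ : G → ℂ) (t * y * t⁻¹ * c) *
        conj ((ψ : G → ℂ) (t * y * t⁻¹ * c)) =
        ∑ c ∈ regC p y, starFun p M (wt p M P η) (χ : G → ℂ) (y * c) *
        conj ((ψ : G → ℂ) (y * c)) := by
      symm
      refine Finset.sum_bij (fun c _ => t * c * t⁻¹) (fun c hc => ?_)
        (fun a _ b _ h => mul_left_cancel (mul_right_cancel h)) (fun c hc => ?_) (fun c hc => ?_)
      · obtain ⟨h1, h2⟩ := mem_regC.1 hc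
        exact mem_regC.2 ⟨h1.map (MulAut.conj t), by rwa [conj_orderOf]⟩
      · obtain ⟨h1, h2⟩ := mem_regC.1 hc
        refine ⟨t⁻¹ * c * t, mem_regC.2 ⟨?_, ?_⟩, by group⟩
        · have := h1.map (MulAut.conj t⁻¹)
          simpa [MulAut.conj_apply, mul_assoc] using this
        · rw [show t⁻¹ * c * t = t⁻¹ * c * t⁻¹⁻¹ by rw [inv_inv], conj_orderOf]
          exact h2
      · rw [show t * y * t⁻¹ * (t * c * t⁻¹) = t * (y * c) * t⁻¹ by group, hstcl,
          irr_isClassFun ψ]
    rw [hbij, Finset.sum_congr rfl fun c hc => by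
      rw [hF y c hord hc, hsec c hc χ hχ, hsec c hc ψ hψ], Finset.sum_const, nsmul_eq_mul, hval]
    push_cast
    ring
  rw [sI, classInner, sum_by_pPart hM.1]
  rw [← Finset.sum_filter_add_sum_filter_not (qElts G p) (fun x => IsConj y x),
    Finset.sum_congr rfl (fun x hx => hin x (Finset.mem_filter.1 hx).2),
    Finset.sum_eq_zero (s := (qElts G p).filter fun x => ¬ IsConj y x) fun x hx =>
      Finset.sum_eq_zero fun c hc => by
        rw [hF x c (mem_qElts.1 (Finset.mem_filter.1 hx).1) hc,
          hsupp x (Finset.mem_filter.1 hx).2, zero_mul, zero_mul],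
    add_zero, Finset.sum_const, nsmul_eq_mul]
  have hcls : ((qElts G p).filter fun x => IsConj y x).card = Nat.card {x : G // IsConj y x} := by
    rw [Nat.card_eq_fintype_card, Fintype.card_subtype]
    congr 1
    ext x
    simp only [Finset.mem_filter, Finset.mem_univ, true_and, mem_qElts, and_iff_right_iff_imp]
    intro hx
    obtain ⟨t, rfl⟩ := isConj_iff.1 hx
    rwa [conj_orderOf]
  rw [hcls, hcard, ← mul_assoc, ← mul_assoc, ← card_isConj_mul_card_centralizer y, Nat.cast_mul,
    mul_assoc ((_ : ℂ)⁻¹), inv_mul_cancel₀, one_mul]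
  exact mul_ne_zero (Nat.cast_ne_zero.2 (Nat.card_pos_iff.2 ⟨⟨⟨y, IsConj.refl y⟩⟩, inferInstance⟩).ne')
    (Nat.cast_ne_zero.2 Nat.card_pos.ne')

omit hM hmax

/-- Multiples of indicators of subgroups are generalized characters. -/
theorem isGenChar_indicator {K : Type u} [Group K] [Fintype K] (hK : ∀ a b : K, a * b = b * a)
    (H : Subgroup K) [DecidablePred (· ∈ H)] :
    IsGeneralizedCharacter K fun a : K => if a ∈ H then (H.index : ℂ) else 0 := by
  classical
  refine isGenChar_iff_coeff_int.2 ⟨fun a t => by rw [hK t a, mul_inv_cancel_right], fun ψ hψ => ?_⟩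
  haveI := Fintype.ofFinite H
  obtain ⟨n, hn⟩ := classInner_char_nat (isCharacter_of_irr (isIrrCharacter_linear (1 : H →* ℂˣ)))
    (isCharacter_comp (isCharacter_of_irr hψ) H.subtype)
  refine ⟨n, Eq.trans ?_ hn⟩
  simp only [classInner, MonoidHom.one_apply, Units.val_one, one_mul, Subgroup.coe_subtype]
  rw [← Subgroup.card_mul_index H, Nat.cast_mul, mul_inv, mul_assoc]
  congr 1
  rw [Finset.mul_sum, ← Finset.sum_subtype (Finset.univ.filter (· ∈ H)) (by simp)
    (fun a => conj (ψ a)), Finset.sum_filter]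
  refine Finset.sum_congr rfl fun a _ => ?_
  split_ifs
  · rw [← mul_assoc, inv_mul_cancel₀ (Nat.cast_ne_zero.2 Subgroup.index_ne_zero_of_finite),
      one_mul]
  · rw [zero_mul, mul_zero]

/-- Functions invariant under the normaliser of an abelian Sylow subgroup are stable. -/
theorem stable_of_inv [Fact p.Prime] (S : Sylow p G)
    (hab : ∀ x ∈ (S : Subgroup G), ∀ y ∈ (S : Subgroup G), x * y = y * x) {η : G → ℂ}
    (h : ∀ n ∈ Subgroup.normalizer ((S : Subgroup G) : Set G), ∀ x ∈ (S : Subgroup G),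
      η (n * x * n⁻¹) = η x) : Stable p M (S : Subgroup G) η := by
  intro g x a ha h1 hg
  haveI : IsMulCommutative (S : Subgroup G) := ⟨⟨fun a b => Subtype.ext (hab a a.2 b b.2)⟩⟩
  have hx : x ∈ (S : Subgroup G) := by simpa using carries_mem ha h1
  obtain ⟨n, hn, e⟩ := S.conj_eq_normalizer_conj_of_mem x g⁻¹ hx
    (by rw [inv_inv]; exact carries_mem ha hg)
  rw [inv_inv] at e
  rw [e]
  simpa using h n⁻¹ (inv_mem hn) x hx

end CfsgLib.AbPrincipal
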