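import Cfsg.Agent.Lib.AbPrincipal.Reduce

/-!
# Automisers of prime order
-/

namespace CfsgLib.AbPrincipal

open Cfsg CfsgLib.CharTheory CfsgLib.Blocks

set_option linter.unusedVariables false
set_option linter.style.haveILetI false
set_option linter.unusedSectionVars false

universe u

variable {G : Type u} [Group G] [Fintype G] {P : Sylow 2 G}

/-- An intermediate subgroup has as index a divisor of the index. -/
theorem relIndex_between {C K N : Subgroup G} (h1 : C ≤ K) (h2 : K ≤ N) :
    C.relIndex K * K.relIndex N = C.relIndex N :=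
  Subgroup.relIndex_mul_relIndex C K N h1 h2

theorem commutes_mod_of_prime (he : (idx P).Prime) :
    ∀ a ∈ Subgroup.normalizer ((P : Subgroup G) : Set G),
      ∀ b ∈ Subgroup.normalizer ((P : Subgroup G) : Set G),
        a * b * a⁻¹ * b⁻¹ ∈ Subgroup.centralizer ((P : Subgroup G) : Set G) := by
  intro a ha b hb
  set C := Subgroup.centralizer ((P : Subgroup G) : Set G)
  set N := Subgroup.normalizer ((P : Subgroup G) : Set G)
  haveI : (C.subgroupOf N).Normal := Subgroup.normal_subgroupOf_of_le_normalizer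
    (normalizer_le_normalizer_cent (P : Subgroup G))
  haveI : Fact (idx P).Prime := ⟨he⟩
  haveI : IsCyclic (N ⧸ C.subgroupOf N) :=
    isCyclic_of_prime_card (p := idx P) (by rw [← Subgroup.index_eq_card]; rfl)
  letI := IsCyclic.commGroup (α := N ⧸ C.subgroupOf N)
  have h : ((⟨a, ha⟩ * ⟨b, hb⟩ * (⟨a, ha⟩ : N)⁻¹ * (⟨b, hb⟩ : N)⁻¹ : N) :
      N ⧸ C.subgroupOf N) = 1 := by
    rw [QuotientGroup.mk_mul, QuotientGroup.mk_mul, QuotientGroup.mk_mul, QuotientGroup.mk_inv,
      QuotientGroup.mk_inv]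
    rw [mul_comm ((⟨a, ha⟩ : N) : N ⧸ C.subgroupOf N), mul_inv_cancel_right, mul_inv_cancel]
  exact Subgroup.mem_subgroupOf.1 ((QuotientGroup.eq_one_iff _).1 h)

theorem semi_of_prime (hab : ∀ x ∈ (P : Subgroup G), ∀ y ∈ (P : Subgroup G), x * y = y * x)
    (he : (idx P).Prime) : Semi P := by
  refine ⟨hab, he.one_lt, fun y hy hyf => ?_, commutes_mod_of_prime he⟩
  set C := Subgroup.centralizer ((P : Subgroup G) : Set G)
  set N := Subgroup.normalizer ((P : Subgroup G) : Set G)
  have hCK : C ≤ N ⊓ Subgroup.centralizer ({y} : Set G) :=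
    le_inf (Subgroup.centralizer_le_normalizer _)
      (Subgroup.centralizer_le (Set.singleton_subset_iff.2 hy))
  have h := relIndex_between hCK (inf_le_left : N ⊓ Subgroup.centralizer ({y} : Set G) ≤ N)
  rcases (Nat.dvd_prime he).1 (Dvd.intro _ h : C.relIndex _ ∣ idx P) with h1 | h1
  · exact Subgroup.relIndex_eq_one.1 h1
  · exfalso
    rw [h1] at h
    have h2 : (N ⊓ Subgroup.centralizer ({y} : Set G)).relIndex N = 1 :=
      Nat.eq_of_mul_eq_mul_left he.pos (h.trans (mul_one _).symm)
    exact hyf ⟨hy, fun n hn => Subgroup.mem_centralizer_singleton_iff.1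
      ((Subgroup.relIndex_eq_one.1 h2 hn).2)⟩

end CfsgLib.AbPrincipal
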