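import Cfsg.Agent.Lib.AbPrincipal.NineAlg
import Cfsg.Agent.Lib.AbPrincipal.NineAut
import Cfsg.Agent.Lib.AbPrincipal.NineStar
import Cfsg.Agent.Lib.AbPrincipal.Counts
import Cfsg.Agent.Lib.AbPrincipal.Prime
import Cfsg.Agent.Lib.Blocks.AbelianFreeThree

/-!
# Sylow 2-subgroups of order sixteen with inertial index nine
-/

namespace CfsgLib.AbPrincipal

open Cfsg CfsgLib.CharTheory CfsgLib.Blocks
open scoped ComplexConjugate

set_option linter.unusedVariables false
set_option linter.style.haveILetI false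
set_option linter.unusedSectionVars false

universe u

variable {M : Ideal AlgInt} {G : Type u} [Group G] [Fintype G]

section aut

variable {p : ℕ} (P : Sylow p G)

/-- The automiser of the Sylow subgroup. -/
noncomputable def aut : Subgroup (MulAut (P : Subgroup G)) :=
  (P : Subgroup G).normalizerMonoidHom.range

theorem card_aut : Nat.card (aut P) = idx P := by
  rw [aut, ← Subgroup.index_ker, Subgroup.normalizerMonoidHom_ker]
  rfl

theorem conj_apply {n : G} (hn : n ∈ Subgroup.normalizer ((P : Subgroup G) : Set G))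
    (a : (P : Subgroup G)) :
    (((P : Subgroup G).normalizerMonoidHom ⟨n, hn⟩ a : (P : Subgroup G)) : G) = n * a * n⁻¹ := rfl

/-- The elements of the normaliser centralising `a`, counted through the automiser. -/
theorem card_inf_centralizer (hab : ∀ x ∈ (P : Subgroup G), ∀ y ∈ (P : Subgroup G), x * y = y * x)
    (a : (P : Subgroup G)) :
    letI : CommGroup (P : Subgroup G) :=
      { mul_comm := fun x y => Subtype.ext (hab x x.2 y y.2) }
    Nat.card (Subgroup.normalizer ((P : Subgroup G) : Set G) ⊓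
        Subgroup.centralizer ({(a : G)} : Set G) : Subgroup G) =
      Nat.card (Subgroup.centralizer ((P : Subgroup G) : Set G)) *
        Nat.card (NineAut.stab (aut P) a) := by
  letI : CommGroup (P : Subgroup G) :=
    { mul_comm := fun x y => Subtype.ext (hab x x.2 y y.2) }
  set N := Subgroup.normalizer ((P : Subgroup G) : Set G)
  set φ := (P : Subgroup G).normalizerMonoidHom with hφ
  set S := NineAut.stab (aut P) a with hS
  have hK : S.comap φ = (N ⊓ Subgroup.centralizer ({(a : G)} : Set G)).subgroupOf N := by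
    ext n
    rw [Subgroup.mem_comap, Subgroup.mem_subgroupOf]
    constructor
    · intro h
      have h2 : (n : G) * a * (n : G)⁻¹ = a := congrArg Subtype.val h.2
      exact ⟨n.2, Subgroup.mem_centralizer_singleton_iff.2 (mul_inv_eq_iff_eq_mul.1 h2)⟩
    · intro h
      exact ⟨⟨n, rfl⟩, Subtype.ext
        (mul_inv_eq_iff_eq_mul.2 (Subgroup.mem_centralizer_singleton_iff.1 h.2))⟩
  have h1 : Nat.card (S.comap φ) * S.relIndex φ.range = Nat.card N := by
    rw [← Subgroup.index_comap]
    exact Subgroup.card_mul_index _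
  have h2 : Nat.card S * S.relIndex φ.range = idx P := by
    rw [← card_aut, Subgroup.relIndex,
      ← Nat.card_congr (Subgroup.subgroupOfEquivOfLe (show S ≤ φ.range from fun _ h => h.1)).toEquiv]
    exact Subgroup.card_mul_index _
  rw [hK, Nat.card_congr (Subgroup.subgroupOfEquivOfLe (inf_le_left : N ⊓
    Subgroup.centralizer ({(a : G)} : Set G) ≤ N)).toEquiv, card_normalizer, ← h2,
    ← mul_assoc] at h1
  refine Nat.eq_of_mul_eq_mul_right (Nat.pos_of_ne_zero fun h0 => ?_) h1
  have := idx_pos P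
  rw [← h2, h0, mul_zero] at this
  omega

end aut

/-- The invariants of the principal block. -/
theorem nine (hM : IsPModular 2 M) (P : Sylow 2 G)
    (hab : ∀ x ∈ (P : Subgroup G), ∀ y ∈ (P : Subgroup G), x * y = y * x)
    (h16 : Nat.card P = 16) (he : idx P = 9) :
    Nat.card (principalBlock M G) = 16 ∧ blockRank 2 (principalBlock M G) = 9 := by
  classical
  haveI : Fact (Nat.Prime 2) := ⟨Nat.prime_two⟩
  haveI : Fintype (P : Subgroup G) := Fintype.ofFinite _
  set Q : Subgroup G := (P : Subgroup G) with hQ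
  let _ : CommGroup Q :=
    { (inferInstance : Group Q) with mul_comm := fun x y => Subtype.ext (hab x x.2 y y.2) }
  set N := Subgroup.normalizer (Q : Set G) with hN
  have h16' : Nat.card Q = 16 := h16
  obtain ⟨⟨V₁, V₂, c1, c2, hdis, i1, i2, s1, s2, s0, tr⟩, hsq⟩ :=
    NineAut.split (E := aut P) h16' (by rw [card_aut, he])
  set cP := Nat.card (Subgroup.centralizer (Q : Set G)) with hcP
  set l := blockRank 2 (principalBlock M G) with hl
  -- local ranks
  have hfree : ∀ a : Q, a ∉ V₁ → a ∉ V₂ → FreeAt P (a : G) := by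
    intro a ha1 ha2
    have h := card_inf_centralizer P hab a
    rw [s0 a ha1 ha2, mul_one] at h
    exact (Subgroup.eq_of_le_of_card_ge (le_inf (Subgroup.centralizer_le_normalizer _)
      (Subgroup.centralizer_le (Set.singleton_subset_iff.2 a.2))) h.le).ge
  have hthree : ∀ a : Q, Nat.card (NineAut.stab (aut P) a) = 3 → lc 2 M (a : G) = 3 := by
    intro a ha
    set C := Subgroup.centralizer ({(a : G)} : Set G) with hC
    have hle : (P : Subgroup G) ≤ C := le_centralizer_singleton P hab a.2
    haveI := Fintype.ofFinite C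
    set S := P.subtype hle with hSdef
    have hSab : ∀ x ∈ (S : Subgroup C), ∀ y ∈ (S : Subgroup C), x * y = y * x := fun x hx y hy =>
      Subtype.ext (hab x (Subgroup.mem_subgroupOf.1 hx) y (Subgroup.mem_subgroupOf.1 hy))
    have hn : Subgroup.normalizer ((S : Subgroup C) : Set C) = (N ⊓ C).subgroupOf C := by
      ext n
      rw [Sylow.coe_subtype, Subgroup.mem_subgroupOf]
      constructor
      · intro h
        refine ⟨Subgroup.mem_normalizer_iff.2 fun z => ⟨fun hz => ?_, fun hz => ?_⟩, n.2⟩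
        · exact Subgroup.mem_subgroupOf.1
            ((Subgroup.mem_normalizer_iff.1 h ⟨z, hle hz⟩).1 (Subgroup.mem_subgroupOf.2 hz))
        · have hzC : z ∈ C := by
            have h2 := C.mul_mem (C.mul_mem (C.inv_mem n.2) (hle hz)) n.2
            convert h2 using 1
            group
          exact (Subgroup.mem_subgroupOf (K := C) (h := ⟨z, hzC⟩)).1
            ((Subgroup.mem_normalizer_iff.1 h ⟨z, hzC⟩).2 (Subgroup.mem_subgroupOf.2 hz))
      · intro h
        exact Subgroup.mem_normalizer_iff.2 fun z => by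
          rw [Subgroup.mem_subgroupOf, Subgroup.mem_subgroupOf]
          exact Subgroup.mem_normalizer_iff.1 h.1 z
    have hc : Subgroup.centralizer ((S : Subgroup C) : Set C) =
        (Subgroup.centralizer (Q : Set G)).subgroupOf C := by
      ext n
      rw [Sylow.coe_subtype, Subgroup.mem_subgroupOf]
      exact ⟨fun h z hz => congrArg Subtype.val (h ⟨z, hle hz⟩ (Subgroup.mem_subgroupOf.2 hz)),
        fun h z hz => Subtype.ext (h z (Subgroup.mem_subgroupOf.1 hz))⟩
    have hidx : idx S = 3 := by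
      have h := card_normalizer S
      rw [hn, hc, Nat.card_congr (Subgroup.subgroupOfEquivOfLe inf_le_right).toEquiv,
        Nat.card_congr (Subgroup.subgroupOfEquivOfLe
          (Subgroup.centralizer_le (Set.singleton_subset_iff.2 a.2))).toEquiv,
        card_inf_centralizer P hab a, ha] at h
      exact (Nat.eq_of_mul_eq_mul_left Nat.card_pos h).symm
    have := (semi_counts hM (semi_of_prime hSab (hidx ▸ Nat.prime_three))).1
    rw [hidx] at this
    exact this
  -- the count
  have hk : Nat.card (principalBlock M G) = l + 7 := by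
    have h := count hM P hab
    rw [card_normalizer, he, ← hcP] at h
    have hterm : ∀ u : Q, Nat.card (N ⊓ Subgroup.centralizer ({(u : G)} : Set G) : Subgroup G) *
        lc 2 M (u : G) + cP * (if u = 1 then 9 else 0) =
        cP * ((1 + if u ∈ V₁ ∨ u ∈ V₂ then 8 else 0) + if u = 1 then 9 * l else 0) := by
      intro u
      by_cases hu : u = 1
      · subst hu
        rw [if_pos rfl, if_pos (Or.inl V₁.one_mem), if_pos rfl, lc_of_mem_center hM
          (by simp), show N ⊓ Subgroup.centralizer ({((1 : Q) : G)} : Set G) = N from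
          inf_eq_left.2 fun g _ => Subgroup.mem_centralizer_singleton_iff.2 (by simp),
          card_normalizer, he, ← hcP, ← hl]
        ring
      · rw [if_neg hu, if_neg hu]
        by_cases hV : u ∈ V₁ ∨ u ∈ V₂
        · have hs : Nat.card (NineAut.stab (aut P) u) = 3 := hV.elim (fun h => s1 u h hu) fun h => s2 u h hu
          rw [if_pos hV, hthree u hs, card_inf_centralizer P hab u, hs, ← hcP]
          ring
        · rw [if_neg hV]
          push Not at hV
          rw [lc_of_free hM P hab u.2 (hfree u hV.1 hV.2),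
            card_inf_of_free P hab u.2 (hfree u hV.1 hV.2), ← hcP]
          ring
    have h2 := Finset.sum_congr rfl fun (u : Q) (_ : u ∈ Finset.univ) => hterm u
    rw [Finset.sum_add_distrib, ← h, ← Finset.mul_sum, ← Finset.mul_sum, Finset.sum_add_distrib,
      Finset.sum_add_distrib, Finset.sum_ite_eq', Finset.sum_ite_eq', if_pos (Finset.mem_univ _),
      if_pos (Finset.mem_univ _), Finset.sum_const, Finset.card_univ, ← Nat.card_eq_fintype_card,
      h16', ← Finset.sum_filter, Finset.sum_const] at h2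
    have h7 : (Finset.univ.filter fun u : Q => u ∈ V₁ ∨ u ∈ V₂).card = 7 := by
      have e1 : (Finset.univ.filter fun u : Q => u ∈ V₁).card = 4 := by
        rw [← Fintype.card_subtype, ← Nat.card_eq_fintype_card]; exact c1
      have e2 : (Finset.univ.filter fun u : Q => u ∈ V₂).card = 4 := by
        rw [← Fintype.card_subtype, ← Nat.card_eq_fintype_card]; exact c2
      have e3 : (Finset.univ.filter fun u : Q => u ∈ V₁) ∩ (Finset.univ.filter fun u : Q => u ∈ V₂) =
          {1} := by
        ext u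
        simp only [Finset.mem_inter, Finset.mem_filter, Finset.mem_univ, true_and,
          Finset.mem_singleton]
        exact ⟨fun h => Subgroup.disjoint_def.1 hdis h.1 h.2,
          fun h => h ▸ ⟨V₁.one_mem, V₂.one_mem⟩⟩
      have := Finset.card_union_add_card_inter (Finset.univ.filter fun u : Q => u ∈ V₁)
        (Finset.univ.filter fun u : Q => u ∈ V₂)
      rw [e1, e2, e3, Finset.card_singleton, ← Finset.filter_or] at this
      omega
    simp only [smul_eq_mul, mul_one, h7] at h2
    have h3 : cP * (9 * Nat.card (principalBlock M G) + 9) = cP * (16 + 7 * 8 + 9 * l) := by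
      rw [← h2]; ring
    have := Nat.eq_of_mul_eq_mul_left Nat.card_pos h3
    omega
  -- a representative of the free orbit
  obtain ⟨y, hy1, hy2⟩ : ∃ y : Q, y ∉ V₁ ∧ y ∉ V₂ := by
    by_contra hno
    push Not at hno
    have h : (Set.univ : Set Q) ⊆ (V₁ : Set Q) ∪ V₂ := fun u _ => or_iff_not_imp_left.2 (hno u)
    have h' := (Set.ncard_le_ncard h).trans (Set.ncard_union_le _ _)
    rw [Set.ncard_univ, h16', ← Nat.card_coe_set_eq, ← Nat.card_coe_set_eq] at h'
    change 16 ≤ Nat.card V₁ + Nat.card V₂ at h'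
    omega
  have hconj : ∀ u : Q, IsConj (y : G) (u : G) ↔ u ∉ V₁ ∧ u ∉ V₂ := by
    intro u
    haveI : IsMulCommutative (P : Subgroup G) := ⟨⟨fun a b => mul_comm a b⟩⟩
    constructor
    · intro hc
      obtain ⟨g, hg⟩ := isConj_iff.1 hc
      obtain ⟨n, hn, e⟩ := P.conj_eq_normalizer_conj_of_mem (y : G) g⁻¹ y.2
        (by rw [inv_inv, hg]; exact u.2)
      rw [inv_inv, hg] at e
      have hu : (P : Subgroup G).normalizerMonoidHom ⟨n, hn⟩ u = y := Subtype.ext (by
        rw [conj_apply P hn, e]; group)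
      exact ⟨fun h => hy1 (hu ▸ i1 _ ⟨_, rfl⟩ u h), fun h => hy2 (hu ▸ i2 _ ⟨_, rfl⟩ u h)⟩
    · rintro ⟨h1, h2⟩
      obtain ⟨β, ⟨n, rfl⟩, hβ⟩ := tr y u hy1 hy2 h1 h2
      exact isConj_iff.2 ⟨n, congrArg Subtype.val hβ⟩
  have hyfree := hfree y hy1 hy2
  have hC := complement_centralizer P hab y.2 hyfree
  have hmax := principal_maximal hM P
  -- the functions
  set f₁ : G → ℂ := fun g => if g ∈ V₁.map Q.subtype then 4 else 0 with hf1
  set f₂ : G → ℂ := fun g => if g ∈ V₂.map Q.subtype then 4 else 0 with hf2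
  set c : G → ℂ := fun g => if g = 1 then 16 else 0 with hc
  set r : G → ℂ := fun g => if IsConj (y : G) g then 16 else 0 with hr
  have hinv : ∀ V : Subgroup Q, (∀ β ∈ aut P, ∀ a ∈ V, β a ∈ V) →
      ∀ n ∈ N, ∀ x ∈ Q, (n * x * n⁻¹ ∈ V.map Q.subtype ↔ x ∈ V.map Q.subtype) := by
    intro V hV n hn x hx
    have key : ∀ m (hm : m ∈ N), ∀ z, z ∈ V.map Q.subtype → m * z * m⁻¹ ∈ V.map Q.subtype := by
      rintro m hm _ ⟨a, ha, rfl⟩
      exact ⟨_, hV _ ⟨⟨m, hm⟩, rfl⟩ a ha, rfl⟩
    refine ⟨fun h => ?_, key n hn x⟩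
    have := key n⁻¹ (inv_mem hn) _ h
    simpa [mul_assoc] using this
  have hccl : IsClassFunction G c := fun g h => by simp only [hc, conj_eq_one_iff]
  have hrcl : IsClassFunction G r := fun g h => by
    simp only [hr]
    have : IsConj g (h * g * h⁻¹) := isConj_iff.2 ⟨h, rfl⟩
    exact if_congr ⟨fun e => e.trans this.symm, fun e => e.trans this⟩ rfl rfl
  have hst1 : Stable 2 M Q f₁ := stable_of_inv P hab fun n hn x hx => by
    simp only [hf1, hinv V₁ i1 n hn x hx]
  have hst2 : Stable 2 M Q f₂ := stable_of_inv P hab fun n hn x hx => by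
    simp only [hf2, hinv V₂ i2 n hn x hx]
  have hstc : Stable 2 M Q c := fun g x _ _ _ _ => hccl x g
  have hstr : Stable 2 M Q r := fun g x _ _ _ _ => hrcl x g
  have hgen : ∀ V : Subgroup Q, Nat.card V = 4 →
      IsGeneralizedCharacter Q fun u : Q => if (u : G) ∈ V.map Q.subtype then (4 : ℂ) else 0 := by
    intro V hV
    have hi : V.index = 4 := by
      have := Subgroup.card_mul_index V
      rw [hV, h16'] at this
      omega
    have := isGenChar_indicator (K := Q) (fun a b => mul_comm a b) V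
    rw [hi] at this
    convert this using 3 with u
    · exact Subgroup.mem_map_iff_mem Q.subtype_injective
    · norm_num
  have hgen1 : IsGeneralizedCharacter Q fun u : Q => f₁ u := hgen V₁ c1
  have hgen2 : IsGeneralizedCharacter Q fun u : Q => f₂ u := hgen V₂ c2
  have hgenc : IsGeneralizedCharacter Q fun u : Q => c u := by
    have := isGenChar_indicator (K := Q) (fun a b => mul_comm a b) (⊥ : Subgroup Q)
    rw [Subgroup.index_bot, h16'] at this
    convert this using 3 with u
    · simp [Subgroup.mem_bot]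
    · norm_num
  -- the matrices
  set B := principalBlock M G with hB
  haveI : Fintype {χ // χ ∈ B} := Fintype.ofFinite _
  choose z₁ hz₁ using fun χ ψ => sI_int hM hmax hst1 hgen1 χ ψ
  choose z₂ hz₂ using fun χ ψ => sI_int hM hmax hst2 hgen2 χ ψ
  choose zc hzc using fun χ ψ => sI_int hM hmax hstc hgenc χ ψ
  choose xv hxv using fun χ : IrrCharacter G =>
    AbelianFree.involution_value (isCharacter_of_irr χ.2) (congrArg Subtype.val (hsq y))
  set Am : {χ // χ ∈ B} → {χ // χ ∈ B} → ℤ := fun i j => 4 * z₁ i j - zc i j with hAm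
  set Bm : {χ // χ ∈ B} → {χ // χ ∈ B} → ℤ := fun i j => 4 * z₂ i j - zc i j with hBm
  set Cm : {χ // χ ∈ B} → {χ // χ ∈ B} → ℤ := fun i j => zc i j with hCm
  set xs : {χ // χ ∈ B} → ℤ := fun i => xv i with hxs
  set ηA : G → ℂ := (4 : ℂ) • f₁ + (-1 : ℂ) • c with hηA
  set ηB : G → ℂ := (4 : ℂ) • f₂ + (-1 : ℂ) • c with hηB
  have hA : ∀ i j, sI 2 M Q ηA i.1 j.1 = (Am i j : ℂ) := fun i j => by
    rw [hηA, sI_add, sI_smul, sI_smul, hz₁, hzc, hAm]; push_cast; ring
  have hBv : ∀ i j, sI 2 M Q ηB i.1 j.1 = (Bm i j : ℂ) := fun i j => by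
    rw [hηB, sI_add, sI_smul, sI_smul, hz₂, hzc, hBm]; push_cast; ring
  have hr1 : r (y : G) = (Nat.card Q : ℂ) := by
    rw [h16', hr]
    simp only [if_pos (IsConj.refl (y : G))]
    norm_num
  have hx : ∀ i j : {χ // χ ∈ B}, sI 2 M Q r i.1 j.1 = ((xs i * xs j : ℤ) : ℂ) := fun i j => by
    rw [sI_section hM hmax P rfl y.2 (le_centralizer_singleton P hab y.2) hC hrcl
      (fun g hg => if_neg hg) hr1 i.2 j.2, hxv, hxv, map_intCast]
    push_cast; rfl
  -- values on the Sylow subgroup
  have hm : ∀ V : Subgroup Q, ∀ u : Q, (u : G) ∈ V.map Q.subtype ↔ u ∈ V := fun V u =>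
    Subgroup.mem_map_iff_mem Q.subtype_injective
  have hvals : ∀ u : Q,
      (ηA u = 0 ∧ ηB u = 0 ∧ c (u : G) = 16 ∧ r (u : G) = 0) ∨
      (ηA u = 16 ∧ ηB u = 0 ∧ c (u : G) = 0 ∧ r (u : G) = 0) ∨
      (ηA u = 0 ∧ ηB u = 16 ∧ c (u : G) = 0 ∧ r (u : G) = 0) ∨
      (ηA u = 0 ∧ ηB u = 0 ∧ c (u : G) = 0 ∧ r (u : G) = 16) := by
    intro u
    by_cases hu : u = 1
    · subst hu
      left
      have : ¬ IsConj (y : G) ((1 : Q) : G) := fun h => ((hconj 1).1 h).1 V₁.one_mem
      simp only [hηA, hηB, hf1, hf2, hc, hr, Pi.add_apply, Pi.smul_apply, smul_eq_mul, hm,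
        if_pos V₁.one_mem, if_pos V₂.one_mem, OneMemClass.coe_one] at this ⊢
      rw [if_neg this]
      norm_num
    have hu' : (u : G) ≠ 1 := fun e => hu (Subtype.ext e)
    simp only [hηA, hηB, hf1, hf2, hc, hr, Pi.add_apply, Pi.smul_apply, smul_eq_mul, hm,
      if_neg hu', hconj u]
    by_cases h1 : u ∈ V₁
    · have h2 : u ∉ V₂ := fun h2 => hu (Subgroup.disjoint_def.1 hdis h1 h2)
      right; left
      simp [h1, h2]; norm_num
    · by_cases h2 : u ∈ V₂
      · right; right; left
        simp [h1, h2]; norm_num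
      · right; right; right
        simp [h1, h2]
  have hval' : ∀ y' ∈ Q, (ηA + ηB + c + r) y' = ((16 : ℂ) • fun _ : G => (1 : ℂ)) y' := by
    intro y' hy'
    rcases hvals ⟨y', hy'⟩ with h | h | h | h <;>
    · obtain ⟨a, b, cc, d⟩ := h
      simp only [Pi.add_apply, Pi.smul_apply, smul_eq_mul]
      rw [a, b, cc, d]; norm_num
  have htot : ∀ i j : {χ // χ ∈ B}, Am i j + Bm i j + Cm i j + xs i * xs j =
      if i = j then 16 else 0 := by
    intro i j
    have h := sI_congr (M := M) (p := 2) hval' i.1 j.1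
    rw [sI_add, sI_add, sI_add, sI_smul, sI_one hM hmax (η := fun _ => (1 : ℂ)) (fun _ _ => rfl) i.2,
      hA, hBv, hzc, hx] at h
    have e : ((Am i j + Bm i j + Cm i j + xs i * xs j : ℤ) : ℂ) =
        ((if i = j then 16 else 0 : ℤ) : ℂ) := by
      push_cast at h ⊢
      refine h.trans ?_
      by_cases hij : i = j
      · rw [if_pos (congrArg Subtype.val hij), if_pos hij, mul_one]
      · rw [if_neg fun e => hij (Subtype.ext e), if_neg hij, mul_zero]
    exact_mod_cast e
  have hsqr : ∀ (η : G → ℂ) (Mt : {χ // χ ∈ B} → {χ // χ ∈ B} → ℤ), Stable 2 M Q η →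
      (∀ i j, sI 2 M Q η i.1 j.1 = (Mt i j : ℂ)) → (∀ u : Q, η u = 0 ∨ η u = 16) →
      ∀ i j, ∑ k, Mt i k * Mt j k = 16 * Mt i j := by
    intro η Mt hst hMt h01 i j
    have h : ∑ k : {χ // χ ∈ B}, sI 2 M Q η i.1 k.1 * conj (sI 2 M Q η j.1 k.1) = _ :=
      sI_mul hM hmax η hst i.2 j.2
    rw [sI_congr (η' := (16 : ℂ) • η) (fun u hu => ?_) i.1 j.1, sI_smul, hMt] at h
    · simp only [hMt, map_intCast] at h
      exact_mod_cast h
    · simp only [Pi.smul_apply, smul_eq_mul]
      rcases h01 ⟨u, hu⟩ with e | e <;> rw [show η u = _ from e] <;> simp [map_ofNat]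
  have hstA : Stable 2 M Q ηA := fun g x a ha h1 h2 => by
    simp only [hηA, Pi.add_apply, Pi.smul_apply, hst1 g x a ha h1 h2, hstc g x a ha h1 h2]
  have hstB : Stable 2 M Q ηB := fun g x a ha h1 h2 => by
    simp only [hηB, Pi.add_apply, Pi.smul_apply, hst2 g x a ha h1 h2, hstc g x a ha h1 h2]
  have hxne : ∀ i, xs i ≠ 0 := by
    intro i h0
    obtain ⟨w, hw, hwr, hne⟩ := exists_major_value_ne_zero hM principalBlock_isPBlock
      (maximal_isDefectGroup hM hmax) y.2 (fun d hd => hab d hd y y.2) i.2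
    apply hne
    rw [section_const hM ⟨1, ?_⟩ hC i.2 hw.symm hwr, hxv i.1]
    · rw [show xv i.1 = 0 from h0, Int.cast_zero]
    · rw [pow_one]
      exact orderOf_eq_prime (by rw [pow_two]; exact congrArg Subtype.val (hsq y))
        fun e => hy1 (by rw [show y = 1 from Subtype.ext e]; exact V₁.one_mem)
  have horth : ∀ (η : G → ℂ) (Mt : {χ // χ ∈ B} → {χ // χ ∈ B} → ℤ),
      (∀ i j, sI 2 M Q η i.1 j.1 = (Mt i j : ℂ)) → (∀ u : Q, η u = 0 ∨ r (u : G) = 0) →
      ∀ i, ∑ k, Mt i k * xs k = 0 := by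
    intro η Mt hMt h0 i
    have h : ∑ k : {χ // χ ∈ B}, sI 2 M Q η i.1 k.1 * conj (sI 2 M Q r i.1 k.1) = _ :=
      sI_mul hM hmax η hstr i.2 i.2
    rw [sI_congr (η' := (0 : ℂ) • η) (fun u hu => ?_) i.1 i.1, sI_smul, zero_mul] at h
    · simp only [hMt, hx, map_intCast] at h
      have h' : (∑ k, Mt i k * (xs i * xs k) : ℤ) = 0 := by exact_mod_cast h
      rw [Finset.sum_congr rfl fun k _ => show Mt i k * (xs i * xs k) = xs i * (Mt i k * xs k) by ring,
        ← Finset.mul_sum] at h'
      exact (mul_eq_zero.1 h').resolve_left (hxne i)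
    · simp only [Pi.smul_apply, smul_eq_mul, zero_mul]
      rcases h0 ⟨u, hu⟩ with e | e
      · rw [show η u = 0 from e, zero_mul]
      · rw [show r u = 0 from e, map_zero, mul_zero]
  have hres : ∀ i j : {χ // χ ∈ B}, (4 : ℤ) ∣ Cm i j - xs i * xs j := by
    intro i j
    refine ⟨z₁ i j + z₂ i j - if i = j then 4 else 0, ?_⟩
    have h := htot i j
    simp only [hAm, hBm, hCm] at h ⊢
    split_ifs at h ⊢ <;> linarith
  have hpA : NineAlg.Proj Am xs :=
    { sq := hsqr ηA Am hstA hA fun u => by rcases hvals u with h | h | h | h <;> simp [h.1]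
      res := fun i j => by
        obtain ⟨d, hd⟩ := hres i j
        exact ⟨z₁ i j - d, by simp only [hAm, hCm] at hd ⊢; linarith⟩
      orth := horth ηA Am hA fun u => by rcases hvals u with h | h | h | h <;> simp [h.1, h.2.2.2] }
  have hpB : NineAlg.Proj Bm xs :=
    { sq := hsqr ηB Bm hstB hBv fun u => by rcases hvals u with h | h | h | h <;> simp [h.2.1]
      res := fun i j => by
        obtain ⟨d, hd⟩ := hres i j
        exact ⟨z₂ i j - d, by simp only [hBm, hCm] at hd ⊢; linarith⟩
      orth := horth ηB Bm hBv fun u => by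
        rcases hvals u with h | h | h | h <;> simp [h.2.1, h.2.2.2] }
  have hpC : NineAlg.Comp Cm xs :=
    { sq := hsqr c Cm hstc (fun i j => hzc i.1 j.1) fun u => by
        rcases hvals u with h | h | h | h <;> simp [h.2.2.1]
      res := hres }
  have hsum : ∑ i, xs i ^ 2 = 16 := by
    have i : {χ // χ ∈ B} := ⟨oneIrr G, oneIrr_mem hM⟩
    have h := hsqr r (fun i j => xs i * xs j) hstr hx
      (fun u => by rcases hvals u with h | h | h | h <;> simp [h.2.2.2]) i i
    rw [Finset.sum_congr rfl fun k _ => show xs i * xs k * (xs i * xs k) = (xs i * xs i) * xs k ^ 2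
      by ring, ← Finset.mul_sum, mul_comm (16 : ℤ)] at h
    exact mul_left_cancel₀ (mul_ne_zero (hxne i) (hxne i)) h
  have hl1 : 1 ≤ l := by
    rw [hl, blockRank, Nat.one_le_iff_ne_zero, Ne, Submodule.finrank_eq_zero, Submodule.span_eq_bot]
    intro h
    have h1 := congrFun (h _ ⟨oneIrr G, oneIrr_mem hM, rfl⟩) 1
    simp [pRegularPart, IsPRegular, oneIrr] at h1
  have hcard : Fintype.card {χ // χ ∈ B} = Nat.card B := Nat.card_eq_fintype_card.symm
  rcases NineAlg.card_cases hpA hpB hpC htot hsum hxne (by omega) with h8 | h16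
  · exfalso
    have hl' : l = 1 := by omega
    have hN : FreeAt P (1 : G) := inf_le_of_complement P hab P.one_mem (by
      have htop : Subgroup.centralizer ({(1 : G)} : Set G) = ⊤ :=
        eq_top_iff.2 fun g _ => Subgroup.mem_centralizer_singleton_iff.2 (by simp)
      rw [htop]
      haveI := Fintype.ofFinite (⊤ : Subgroup G)
      exact complement_of_blockRank hM ((blockRank_equiv Subgroup.topEquiv).trans hl'))
    have : idx P = 1 := Subgroup.relIndex_eq_one.2 fun g hg =>
      hN ⟨hg, Subgroup.mem_centralizer_singleton_iff.2 (by simp)⟩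
    omega
  · omega

end CfsgLib.AbPrincipal
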