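import Mathlib

/-!
# An arithmetic lemma on four integral projections
-/

namespace CfsgLib.AbPrincipal.NineAlg

open Finset

set_option linter.unusedSectionVars false
set_option linter.unusedSimpArgs false

variable {I : Type*} [Fintype I] [DecidableEq I]

/-- `A` is sixteen times an orthogonal projection killing `x`, with residues modulo four. -/
structure Proj (A : I → I → ℤ) (x : I → ℤ) : Prop where
  sq : ∀ i j, ∑ r, A i r * A j r = 16 * A i j
  res : ∀ i j, (4 : ℤ) ∣ A i j + x i * x j
  orth : ∀ i, ∑ r, A i r * x r = 0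

/-- The same without orthogonality, with the opposite residues. -/
structure Comp (C : I → I → ℤ) (x : I → ℤ) : Prop where
  sq : ∀ i j, ∑ r, C i r * C j r = 16 * C i j
  res : ∀ i j, (4 : ℤ) ∣ C i j - x i * x j

theorem even_sq_sub {ι : Type*} (s : Finset ι) (t : ι → ℤ) :
    Even (∑ i ∈ s, t i ^ 2 - ∑ i ∈ s, t i) := by
  rw [← Finset.sum_sub_distrib]
  refine Finset.even_sum _ fun i _ => ?_
  have := Int.even_mul_succ_self (t i - 1)
  rwa [show t i ^ 2 - t i = (t i - 1) * (t i - 1 + 1) by ring]

section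

variable {x : I → ℤ} (hx1 : ∀ i, x i = 1 ∨ x i = 2) (hsum : ∑ i, x i ^ 2 = 16)

include hx1 hsum

/-- The congruence on the row of an odd index. -/
theorem row_parity {A : I → I → ℤ} (hA : Proj A x) {s : I} (hs : x s = 1) (u : I → ℤ)
    (hu : ∀ r, x r = 2 → A s r = 4 * u r - 2) :
    Even (∑ r ∈ univ.filter (fun r => x r = 2), u r) := by
  classical
  have ht : ∀ r, x r = 1 → ∃ t : ℤ, A s r = 4 * t - 1 := fun r hr => by
    obtain ⟨t, ht⟩ := hA.res s r
    rw [hs, hr] at ht
    exact ⟨t, by linarith⟩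
  choose! t ht using ht
  set O := univ.filter (fun r : I => x r = 1) with hO
  set E := univ.filter (fun r : I => x r = 2) with hE
  have hsplit : ∀ f : I → ℤ, ∑ r, f r = ∑ r ∈ O, f r + ∑ r ∈ E, f r := by
    intro f
    rw [hO, hE, ← Finset.sum_union]
    · refine Finset.sum_congr ?_ fun _ _ => rfl
      ext r
      simp [hx1 r]
    · rw [Finset.disjoint_left]
      intro r h1 h2
      rw [mem_filter] at h1 h2
      omega
  have e1 : ∑ r, A s r * x r = ∑ r ∈ O, (4 * t r - 1) + ∑ r ∈ E, (8 * u r - 4) := by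
    rw [hsplit]
    congr 1
    · refine Finset.sum_congr rfl fun r hr => ?_
      rw [ht r (mem_filter.1 hr).2, (mem_filter.1 hr).2, mul_one]
    · refine Finset.sum_congr rfl fun r hr => ?_
      rw [hu r (mem_filter.1 hr).2, (mem_filter.1 hr).2]
      ring
  have e2 : ∑ r, A s r * A s r = ∑ r ∈ O, (16 * t r ^ 2 - 8 * t r + 1) +
      ∑ r ∈ E, (16 * u r ^ 2 - 16 * u r + 4) := by
    rw [hsplit]
    congr 1
    · refine Finset.sum_congr rfl fun r hr => ?_
      rw [ht r (mem_filter.1 hr).2]; ring
    · refine Finset.sum_congr rfl fun r hr => ?_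
      rw [hu r (mem_filter.1 hr).2]; ring
  have e3 : (O.card : ℤ) + 4 * E.card = 16 := by
    rw [← hsum, hsplit, Finset.sum_congr rfl (fun r (hr : r ∈ O) =>
      show x r ^ 2 = 1 by rw [(mem_filter.1 hr).2]; norm_num),
      Finset.sum_congr rfl (fun r (hr : r ∈ E) =>
      show x r ^ 2 = 4 by rw [(mem_filter.1 hr).2]; norm_num)]
    simp [Finset.sum_const, nsmul_eq_mul]
    ring
  rw [hA.orth] at e1
  rw [hA.sq] at e2
  simp only [Finset.sum_sub_distrib, Finset.sum_add_distrib, ← Finset.mul_sum, Finset.sum_const,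
    nsmul_eq_mul, mul_one] at e1 e2
  have hodd : Odd (A s s) := ⟨2 * t s - 1, by rw [ht s hs]; ring⟩
  obtain ⟨a, ha⟩ := hodd
  obtain ⟨b, hb⟩ := even_sq_sub O t
  obtain ⟨c, hc⟩ := even_sq_sub E u
  rw [Int.even_iff]
  omega

variable {A : I → I → ℤ}

theorem res_even (hA : Proj A x) {s r : I} (hs : x s = 1) (hr : x r = 2) :
    ∃ u : ℤ, A s r = 4 * u - 2 := by
  obtain ⟨u, hu⟩ := hA.res s r
  rw [hs, hr] at hu
  exact ⟨u, by linarith⟩

theorem symm (hA : Proj A x) (i j : I) : A i j = A j i := by
  have h1 := hA.sq i j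
  have h2 := hA.sq j i
  rw [Finset.sum_congr rfl fun r _ => mul_comm (A i r) (A j r), h2] at h1
  linarith

theorem odd_row_even (hA : Proj A x) {r : I} (hr : x r = 2) {s : I} (hs : x s = 1) :
    ∃ u : ℤ, A r s = 4 * u - 2 := by
  rw [symm hx1 hsum hA]
  exact res_even hx1 hsum hA hs hr

theorem diag_four {B C : I → I → ℤ} (hA : Proj A x) (hB : Proj B x) (hC : Comp C x)
    (htot : ∀ i j, A i j + B i j + C i j + x i * x j = if i = j then 16 else 0)
    {r : I} (hr : x r = 2) {s : I} (hs : x s = 1) : A r r = 4 ∧ B r r = 4 ∧ C r r = 4 := by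
  have key : ∀ M : I → I → ℤ, (∑ q, M r q * M r q = 16 * M r r) → ((4 : ℤ) ∣ M r r) →
      M r s ≠ 0 → 4 ≤ M r r := by
    intro M hsq hdvd hne
    have h1 : 0 < ∑ q, M r q * M r q := by
      refine lt_of_lt_of_le (mul_self_pos.2 hne) ?_
      exact Finset.single_le_sum (f := fun q => M r q * M r q) (fun q _ => mul_self_nonneg _)
        (mem_univ s)
    rw [hsq] at h1
    obtain ⟨k, hk⟩ := hdvd
    omega
  have a1 := hA.res r r
  have a2 := hA.res r s
  have b1 := hB.res r r
  have b2 := hB.res r s
  have c1 := hC.res r r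
  have c2 := hC.res r s
  rw [hr] at a1 b1 c1
  rw [hr, hs] at a2 b2 c2
  have ha := key A (hA.sq r r) (by omega) (by omega)
  have hb := key B (hB.sq r r) (by omega) (by omega)
  have hc := key C (hC.sq r r) (by omega) (by omega)
  have h := htot r r
  rw [hr, if_pos rfl] at h
  omega

theorem one_even {B C : I → I → ℤ} (hA : Proj A x) (hB : Proj B x) (hC : Comp C x)
    (htot : ∀ i j, A i j + B i j + C i j + x i * x j = if i = j then 16 else 0)
    {r : I} (hE : univ.filter (fun i => x i = 2) = {r}) : False := by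
  classical
  have hr : x r = 2 := (mem_filter.1 (hE.ge (mem_singleton_self r))).2
  have hodd : ∀ s, s ≠ r → x s = 1 := fun s hs => (hx1 s).resolve_right fun h =>
    hs (mem_singleton.1 (hE.le (mem_filter.2 ⟨mem_univ _, h⟩)))
  have hcard : (univ.erase r).card = 12 := by
    have h := hsum
    rw [← Finset.add_sum_erase _ _ (mem_univ r), hr, Finset.sum_congr rfl
      (fun s hs => by rw [hodd s (ne_of_mem_erase hs), one_pow]), Finset.sum_const,
      nsmul_eq_mul, mul_one] at h
    norm_num [-Finset.card_erase_of_mem] at h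
    omega
  obtain ⟨s₀, hs₀⟩ := Finset.card_pos.1 (show 0 < (univ.erase r).card by omega)
  obtain ⟨hA4, -, -⟩ := diag_four hx1 hsum hA hB hC htot hr (hodd s₀ (ne_of_mem_erase hs₀))
  have hge : ∀ s ∈ univ.erase r, 4 ≤ A r s * A r s := fun s hs => by
    obtain ⟨u, hu⟩ := odd_row_even hx1 hsum hA hr (hodd s (ne_of_mem_erase hs))
    rw [hu]
    rcases le_or_gt u 0 with h | h <;> nlinarith
  have hsq := hA.sq r r
  rw [← Finset.add_sum_erase _ _ (mem_univ r), hA4] at hsq
  have heq : ∀ s ∈ univ.erase r, A r s * A r s = 4 := by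
    by_contra hne
    push Not at hne
    obtain ⟨s, hs, hne⟩ := hne
    have h1 : ∑ _s ∈ univ.erase r, (4 : ℤ) < ∑ s ∈ univ.erase r, A r s * A r s :=
      Finset.sum_lt_sum hge ⟨s, hs, lt_of_le_of_ne (hge s hs) (Ne.symm hne)⟩
    rw [Finset.sum_const, hcard, nsmul_eq_mul] at h1
    push_cast at h1
    linarith
  have horth := hA.orth r
  rw [← Finset.add_sum_erase _ _ (mem_univ r), hr, hA4, Finset.sum_congr rfl
    (fun s hs => by rw [hodd s (ne_of_mem_erase hs), mul_one])] at horth
  obtain ⟨s, hs, hpos⟩ : ∃ s ∈ univ.erase r, A r s = 2 := by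
    by_contra hno
    push Not at hno
    have hall : ∀ s ∈ univ.erase r, A r s = -2 := fun s hs => by
      have h4 := heq s hs
      have : (A r s - 2) * (A r s + 2) = 0 := by linarith
      rcases mul_eq_zero.1 this with h | h
      · exact absurd (by linarith) (hno s hs)
      · linarith
    rw [Finset.sum_congr rfl hall, Finset.sum_const, hcard] at horth
    simp at horth
  have hpar := row_parity hx1 hsum hA (hodd s (ne_of_mem_erase hs)) (fun _ => 1) (fun q hq => by
    obtain rfl : q = r := mem_singleton.1 (hE.le (mem_filter.2 ⟨mem_univ _, hq⟩))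
    rw [symm hx1 hsum hA, hpos]; ring)
  rw [hE] at hpar
  simp at hpar

theorem two_even {B C : I → I → ℤ} (hA : Proj A x) (hB : Proj B x) (hC : Comp C x)
    (htot : ∀ i j, A i j + B i j + C i j + x i * x j = if i = j then 16 else 0)
    {r q : I} (hrq : r ≠ q) (hE : univ.filter (fun i => x i = 2) = {r, q}) : False := by
  classical
  have hr : x r = 2 := (mem_filter.1 (hE.ge (by simp))).2
  have hq : x q = 2 := (mem_filter.1 (hE.ge (by simp))).2
  set O := (univ.erase r).erase q with hO
  have hodd : ∀ s ∈ O, x s = 1 := fun s hs => by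
    obtain ⟨h1, h2⟩ := mem_erase.1 hs
    refine (hx1 s).resolve_right fun h => ?_
    have h3 := hE.le (mem_filter.2 ⟨mem_univ _, h⟩)
    simp [h1, (mem_erase.1 h2).1] at h3
  have hsplit : ∀ f : I → ℤ, ∑ i, f i = f r + (f q + ∑ i ∈ O, f i) := fun f => by
    rw [hO, Finset.add_sum_erase _ _ (mem_erase.2 ⟨hrq.symm, mem_univ q⟩),
      Finset.add_sum_erase _ _ (mem_univ r)]
  have hcard : O.card = 8 := by
    have h := hsum
    rw [hsplit, hr, hq, Finset.sum_congr rfl (fun s hs => by rw [hodd s hs, one_pow]),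
      Finset.sum_const] at h
    simp at h
    omega
  obtain ⟨s₀, hs₀⟩ := Finset.card_pos.1 (show 0 < O.card by omega)
  obtain ⟨a4, b4, c4⟩ := diag_four hx1 hsum hA hB hC htot hr (hodd s₀ hs₀)
  obtain ⟨a4', -, -⟩ := diag_four hx1 hsum hA hB hC htot hq (hodd s₀ hs₀)
  -- the off-diagonal entries
  have key : ∀ M : I → I → ℤ, (∑ i, M r i * M r i = 16 * M r r) → M r r = 4 →
      ((4 : ℤ) ∣ M r q) → (∀ s ∈ O, ∃ u : ℤ, M r s = 4 * u - 2) → M r q = 4 ∨ M r q = -4 := by
    intro M hsq hd hdvd hres
    choose! u hu using hres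
    rw [hsplit, hd, Finset.sum_congr rfl (fun s hs => show M r s * M r s =
        16 * (u s ^ 2 - u s) + 4 by rw [hu s hs]; ring),
      Finset.sum_add_distrib, Finset.sum_const, hcard, ← Finset.mul_sum,
      Finset.sum_sub_distrib] at hsq
    obtain ⟨b, hb⟩ := even_sq_sub O u
    have hnn : 0 ≤ ∑ i ∈ O, u i ^ 2 - ∑ i ∈ O, u i := by
      rw [← Finset.sum_sub_distrib]
      refine Finset.sum_nonneg fun i _ => ?_
      rcases le_or_gt (u i) 0 with h | h <;> nlinarith
    obtain ⟨m, hm⟩ := hdvd
    rw [hm] at hsq ⊢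
    simp at hsq
    have h1 : m * m + 2 * b = 1 := by linarith
    have h2 : m = 1 ∨ m = -1 := by
      have : m * m ≤ 1 := by linarith
      rcases le_or_gt m 0 with h | h
      · rcases eq_or_lt_of_le h with h' | h'
        · subst h'; omega
        · exact Or.inr (by nlinarith)
      · exact Or.inl (by nlinarith)
    rcases h2 with rfl | rfl <;> norm_num
  have a2 := hA.res r q
  have b2 := hB.res r q
  have c2 := hC.res r q
  rw [hr, hq] at a2 b2 c2
  have ha := key A (hA.sq r r) a4 (by omega) fun s hs => odd_row_even hx1 hsum hA hr (hodd s hs)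
  have hb := key B (hB.sq r r) b4 (by omega) fun s hs => odd_row_even hx1 hsum hB hr (hodd s hs)
  have hc := key C (hC.sq r r) c4 (by omega) fun s hs => by
    obtain ⟨u, hu⟩ := hC.res r s
    rw [hr, hodd s hs] at hu
    exact ⟨u + 1, by linarith⟩
  have h := htot r q
  rw [hr, hq, if_neg hrq] at h
  have fin : ∀ M : I → I → ℤ, Proj M x → M r r = 4 → M q q = 4 → M r q = -4 → False := by
    intro M hM h1 h2 h3
    have hzero : ∑ i, (M r i + M q i) * (M r i + M q i) = 0 := by
      simp only [add_mul, mul_add, Finset.sum_add_distrib, hM.sq]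
      rw [symm hx1 hsum hM q r, h1, h2, h3]
      norm_num
    have h0 := (Finset.sum_eq_zero_iff_of_nonneg (fun i _ => mul_self_nonneg _)).1 hzero
    obtain ⟨v, hv⟩ := res_even hx1 hsum hM (hodd s₀ hs₀) hr
    have hvq : M s₀ q = 4 * (1 - v) - 2 := by
      have := mul_self_eq_zero.1 (h0 s₀ (mem_univ _))
      rw [symm hx1 hsum hM r s₀, symm hx1 hsum hM q s₀, hv] at this
      linarith
    have hpar := row_parity hx1 hsum hM (hodd s₀ hs₀) (fun i => if i = r then v else 1 - v)
      (fun i hi => by
        have h4 := hE.le (mem_filter.2 ⟨mem_univ _, hi⟩)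
        rcases mem_insert.1 h4 with rfl | h5
        · rw [if_pos rfl, hv]
        · rw [mem_singleton.1 h5, if_neg hrq.symm, hvq])
    rw [hE, Finset.sum_pair hrq, if_pos rfl, if_neg hrq.symm, add_sub_cancel] at hpar
    simp at hpar
  obtain ⟨-, b4', -⟩ := diag_four hx1 hsum hA hB hC htot hq (hodd s₀ hs₀)
  rcases ha with ha | ha
  · rcases hb with hb | hb
    · rcases hc with hc | hc <;> omega
    · exact fin B hB b4 b4' hb
  · exact fin A hA a4 a4' ha

end

/-- The counting conclusion. -/
theorem card_cases {A B C : I → I → ℤ} {x : I → ℤ} (hA : Proj A x) (hB : Proj B x) (hC : Comp C x)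
    (htot : ∀ i j, A i j + B i j + C i j + x i * x j = if i = j then 16 else 0)
    (hsum : ∑ i, x i ^ 2 = 16) (hne : ∀ i, x i ≠ 0) (h8 : 8 ≤ Fintype.card I) :
    Fintype.card I = 8 ∨ Fintype.card I = 16 := by
  classical
  -- normalise the signs
  let ε : I → ℤ := fun i => if 0 < x i then 1 else -1
  have hε : ∀ i, ε i * ε i = 1 := fun i => by by_cases h : 0 < x i <;> simp [ε, h]
  let y : I → ℤ := fun i => ε i * x i
  have hy0 : ∀ i, 0 < y i := fun i => by
    by_cases h : 0 < x i
    · simp [y, ε, h]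
    · have h0 := hne i
      simp [y, ε, h]
      omega
  have hyy : ∀ i, y i ^ 2 = x i ^ 2 := fun i => by
    show (ε i * x i) ^ 2 = _
    rw [mul_pow, pow_two (ε i), hε, one_mul]
  have hysum : ∑ i, y i ^ 2 = 16 := by simpa only [hyy] using hsum
  let tw : (I → I → ℤ) → I → I → ℤ := fun M i j => ε i * ε j * M i j
  have twsq : ∀ M : I → I → ℤ, (∀ i j, ∑ r, M i r * M j r = 16 * M i j) →
      ∀ i j, ∑ r, tw M i r * tw M j r = 16 * tw M i j := by
    intro M hM i j
    calc ∑ r, tw M i r * tw M j r = ∑ r, ε i * ε j * (M i r * M j r) :=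
          Finset.sum_congr rfl fun r _ => by
            show ε i * ε r * M i r * (ε j * ε r * M j r) = _
            calc _ = ε i * ε j * (ε r * ε r) * (M i r * M j r) := by ring
              _ = _ := by rw [hε, mul_one]
      _ = _ := by rw [← Finset.mul_sum, hM]; show _ = 16 * (ε i * ε j * M i j); ring
  have twP : ∀ M, Proj M x → Proj (tw M) y := by
    intro M hM
    refine ⟨twsq M hM.sq, fun i j => ?_, fun i => ?_⟩
    · rw [show tw M i j + y i * y j = ε i * ε j * (M i j + x i * x j) by
        show ε i * ε j * M i j + ε i * x i * (ε j * x j) = _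
        ring]
      exact Dvd.dvd.mul_left (hM.res i j) _
    · calc ∑ r, tw M i r * y r = ∑ r, ε i * (M i r * x r) :=
            Finset.sum_congr rfl fun r _ => by
              show ε i * ε r * M i r * (ε r * x r) = _
              calc _ = ε i * (ε r * ε r) * (M i r * x r) := by ring
                _ = _ := by rw [hε, mul_one]
        _ = _ := by rw [← Finset.mul_sum, hM.orth, mul_zero]
  have twC : Comp (tw C) y := ⟨twsq C hC.sq, fun i j => by
    rw [show tw C i j - y i * y j = ε i * ε j * (C i j - x i * x j) by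
      show ε i * ε j * C i j - ε i * x i * (ε j * x j) = _
      ring]
    exact Dvd.dvd.mul_left (hC.res i j) _⟩
  have twT : ∀ i j, tw A i j + tw B i j + tw C i j + y i * y j = if i = j then 16 else 0 := by
    intro i j
    show ε i * ε j * A i j + ε i * ε j * B i j + ε i * ε j * C i j + ε i * x i * (ε j * x j) = _
    calc _ = ε i * ε j * (A i j + B i j + C i j + x i * x j) := by ring
      _ = _ := by
        rw [htot]
        split_ifs with h
        · subst h; rw [hε, one_mul]
        · rw [mul_zero]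
  have hsq1 : ∀ i, 1 ≤ y i ^ 2 := fun i => one_le_pow₀ (hy0 i)
  -- a single large value
  have hbound : ∀ i, y i ^ 2 + (Fintype.card I - 1 : ℤ) ≤ 16 := by
    intro i
    rw [← hysum, ← Finset.add_sum_erase _ _ (mem_univ i)]
    have h1 : ∑ _j ∈ univ.erase i, (1 : ℤ) ≤ ∑ j ∈ univ.erase i, y j ^ 2 :=
      Finset.sum_le_sum fun j _ => hsq1 j
    rw [Finset.sum_const, Finset.card_erase_of_mem (mem_univ i), Finset.card_univ,
      nsmul_eq_mul, mul_one, Nat.cast_sub (by omega)] at h1
    push_cast at h1
    linarith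
  have hle3 : ∀ i, y i ≤ 3 := fun i => by
    by_contra h
    push Not at h
    have h16 : (16 : ℤ) ≤ y i ^ 2 := by nlinarith
    have := hbound i
    omega
  by_cases heven : ∃ i, y i = 2
  · exfalso
    obtain ⟨r, hr⟩ := heven
    have hy12 : ∀ i, y i = 1 ∨ y i = 2 := by
      intro i
      have h1 := hy0 i
      have h2 := hle3 i
      rcases (by omega : y i = 1 ∨ y i = 2 ∨ y i = 3) with h | h | h
      · exact Or.inl h
      · exact Or.inr h
      · exfalso
        have hri : r ≠ i := fun e => by subst e; omega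
        have hk : ∑ j, (y j ^ 2 - 1) ≥ (y r ^ 2 - 1) + (y i ^ 2 - 1) := by
          rw [ge_iff_le, ← Finset.sum_pair (f := fun j => y j ^ 2 - 1) hri]
          exact Finset.sum_le_sum_of_subset_of_nonneg (subset_univ _)
            fun j _ _ => by linarith [hsq1 j]
        rw [Finset.sum_sub_distrib, hysum, Finset.sum_const, Finset.card_univ, hr, h] at hk
        simp at hk
        omega
    set E := univ.filter (fun i => y i = 2) with hE
    have hEcard : 3 * E.card + Fintype.card I = 16 := by
      have h : ∑ i, (y i ^ 2 - 1) = ∑ i ∈ E, (3 : ℤ) := by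
        rw [hE, Finset.sum_filter]
        refine Finset.sum_congr rfl fun i _ => ?_
        rcases hy12 i with h | h <;> simp [h]
      rw [Finset.sum_sub_distrib, hysum, Finset.sum_const, Finset.card_univ, Finset.sum_const] at h
      simp at h
      omega
    have hpos : 0 < E.card := Finset.card_pos.2 ⟨r, mem_filter.2 ⟨mem_univ _, hr⟩⟩
    have hcases : E.card = 1 ∨ E.card = 2 := by omega
    rcases hcases with h1 | h2
    · obtain ⟨r', hr'⟩ := Finset.card_eq_one.1 h1
      exact one_even hy12 hysum (twP A hA) (twP B hB) twC twT hr'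
    · obtain ⟨r', q', hne', hr'⟩ := Finset.card_eq_two.1 h2
      exact two_even hy12 hysum (twP A hA) (twP B hB) twC twT hne' hr'
  · push Not at heven
    have hodd : ∀ i, y i = 1 ∨ y i = 3 := fun i => by
      have := hy0 i; have := hle3 i; have := heven i; omega
    have h : ∑ i, (y i ^ 2 - 1) = 8 * ((univ.filter fun i => y i = 3).card : ℤ) := by
      rw [show (8 : ℤ) * ((univ.filter fun i => y i = 3).card : ℤ) =
        ∑ i ∈ univ.filter (fun i => y i = 3), (8 : ℤ) by simp [Finset.sum_const]; ring,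
        Finset.sum_filter]
      refine Finset.sum_congr rfl fun i _ => ?_
      rcases hodd i with h | h <;> simp [h]
    rw [Finset.sum_sub_distrib, hysum, Finset.sum_const, Finset.card_univ] at h
    simp at h
    omega

end CfsgLib.AbPrincipal.NineAlg
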