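import Cfsg.Agent.Lib.DicksonFull.Subgroups
import Cfsg.Agent.Lib.Blocks.MaxPairs
import Cfsg.Agent.Lib.Blocks.FirstMain
import Cfsg.Agent.Lib.Blocks.FullDefect
import Cfsg.Agent.Lib.AbPrincipal.Counts
import Cfsg.Agent.S4765
import Cfsg.Agent.S2544

/-!
# `PSL(2, 2 ^ n)`: Sylow subgroup, torus, classes, principal block
-/

namespace CfsgLib.AbPrincipal

open Cfsg CfsgLib.CharTheory CfsgLib.Blocks
open Matrix
open CfsgLib.PSL2 (mk)
open CfsgLib.Dickson (up)

set_option linter.unusedVariables false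
set_option linter.style.haveILetI false
set_option linter.unusedSectionVars false

universe u

section odd

variable {p : ℕ} {M : Ideal AlgInt} {G : Type u} [Group G] [Fintype G]

theorem eq_principal_of_pgroup {C : Type u} [Group C] [Fintype C] (hM : IsPModular p M)
    (hC : IsPGroup p C) {b : Set (IrrCharacter C)} (hb : IsPBlock M b) :
    b = principalBlock M C := by
  haveI : Fact p.Prime := ⟨hM.1⟩
  obtain ⟨ψ, hψ⟩ := block_nonempty hM hb
  have h : ψ ∈ principalBlock M C := by
    rw [principalBlock_of_complement hM (N := (⊥ : Subgroup C))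
      (by rw [Subgroup.card_bot]; exact hM.1.not_dvd_one)
      (by obtain ⟨k, hk⟩ := hC.exists_card_eq; exact ⟨k, by rw [Subgroup.index_bot, hk]⟩)]
    intro n hn
    rw [Subgroup.mem_bot.1 hn]
  exact (eq_blockOf hM hb hψ).trans (eq_blockOf hM principalBlock_isPBlock h).symm

/-- With a self-centralising Sylow subgroup the characters of degree prime to `p` are principal. -/
theorem mem_principal_of_degree (hM : IsPModular p M) [Fact p.Prime] (P : Sylow p G)
    (hself : Subgroup.centralizer ((P : Subgroup G) : Set G) ≤ (P : Subgroup G))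
    {χ : IrrCharacter G} (hχ : ¬ p ∣ charDegree (χ : G → ℂ)) : χ ∈ principalBlock M G := by
  classical
  have hB : IsPBlock M (blockOf M (χ : G → ℂ)) := blockOf_isPBlock χ
  have hmem : χ ∈ blockOf M (χ : G → ℂ) := mem_blockOf_self hM χ
  have hdef : blockDefect p (blockOf M (χ : G → ℂ)) = (Nat.card G).factorization p := by
    rw [blockDefect_eq]
    have h0 : dv p (χ : G → ℂ) = 0 := Nat.factorization_eq_zero_of_not_dvd hχ
    have h1 := minDv_le (p := p) hmem
    omega
  obtain ⟨D, hD⟩ := exists_defectGroup hM hB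
  have hcard : Nat.card D = Nat.card P := by
    rw [card_defectGroup hM hB hD, hdef, Sylow.card_eq_multiplicity]
  obtain ⟨g, hg⟩ : ∃ g : G, D = (P : Subgroup G).map (MulAut.conj g).toMonoidHom := by
    obtain ⟨T, hT⟩ := (defectGroup_isPGroup hD).exists_le_sylow
    obtain ⟨g, hg⟩ := MulAction.exists_smul_eq G P T
    refine ⟨g, ?_⟩
    have : D = (T : Subgroup G) := Subgroup.eq_of_le_of_card_ge hT
      (by rw [hcard, Sylow.card_eq_multiplicity, Sylow.card_eq_multiplicity])
    rw [this, ← hg]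
    rfl
  obtain ⟨c, hmax⟩ := exists_maximal_at hM hB hD
  haveI := Fintype.ofFinite (Subgroup.centralizer (D : Set G))
  have hCD : IsPGroup p (Subgroup.centralizer (D : Set G)) := by
    refine IsPGroup.to_le (defectGroup_isPGroup hD) fun x hx => ?_
    rw [hg]
    refine ⟨g⁻¹ * x * g, hself fun y hy => ?_, by simp [mul_assoc]⟩
    have h2 := hx (g * y * g⁻¹) (by rw [hg]; exact ⟨y, hy, by simp⟩)
    calc y * (g⁻¹ * x * g) = g⁻¹ * ((g * y * g⁻¹) * x) * g := by group
      _ = g⁻¹ * (x * (g * y * g⁻¹)) * g := by rw [h2]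
      _ = g⁻¹ * x * g * y := by group
  have hc : c = principalBlock M (Subgroup.centralizer (D : Set G)) :=
    eq_principal_of_pgroup hM hCD hmax.1.1.2
  have h2 : IsBrauerPairOf p M (principalBlock M G) D c :=
    (pairOf_principal_iff hM (defectGroup_isPGroup hD) hmax.1.1.2).2 hc
  rw [← pairOf_block_unique hM hmax.1 h2]
  exact hmem

end odd

section even

variable {F : Type} [Field F] [Fintype F] [CharP F 2]

local notation "SL" => Matrix.SpecialLinearGroup (Fin 2) F
local notation "PSL" => Matrix.ProjectiveSpecialLinearGroup (Fin 2) F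

theorem mk_injective : Function.Injective (mk : SL → PSL) := by
  intro A B h
  rcases PSL2.mk_eq_mk.1 h with h | h
  · exact Subtype.ext h.symm
  · refine Subtype.ext (h.trans ?_).symm
    ext i j
    rw [Matrix.neg_apply, CharTwo.neg_eq]

/-- `diag (a, a⁻¹)`. -/
def dia (a : Fˣ) : SL := ⟨!![(a : F), 0; 0, ((a⁻¹ : Fˣ) : F)], by simp [Matrix.det_fin_two]⟩

theorem dia_mul (a b : Fˣ) : dia (a * b) = dia a * dia b := by
  apply Subtype.ext
  rw [Matrix.SpecialLinearGroup.coe_mul]
  simp only [dia, Units.val_mul, _root_.mul_inv_rev, Matrix.mul_fin_two]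
  ext i j
  fin_cases i <;> fin_cases j <;> simp [mul_comm]

/-- The torus. -/
def torus : Fˣ →* PSL where
  toFun a := mk (dia a)
  map_one' := by
    rw [← map_one (PSL2.mk (F := F))]
    congr 1
    apply Subtype.ext
    ext i j
    fin_cases i <;> fin_cases j <;> simp [dia]
  map_mul' a b := by rw [dia_mul, map_mul]

theorem torus_uu (a : Fˣ) (t : F) :
    torus a * PSL2.uu t = PSL2.uu ((a : F) * a * t) * torus a := by
  show mk (dia a) * PSL2.uu t = PSL2.uu ((a : F) * a * t) * mk (dia a)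
  rw [PSL2.uu_eq, PSL2.uu_eq, ← map_mul, ← map_mul]
  congr 1
  apply Subtype.ext
  rw [Matrix.SpecialLinearGroup.coe_mul, Matrix.SpecialLinearGroup.coe_mul]
  simp only [dia, PSL2.uSL, Matrix.mul_fin_two]
  ext i j
  fin_cases i <;> fin_cases j <;> simp <;> field_simp

theorem mem_uSylow {g : PSL} : g ∈ ((PSL2.uSylow (F := F) 2 : Sylow 2 PSL) : Subgroup PSL) ↔
    ∃ t : F, PSL2.uu t = g :=
  ⟨fun ⟨t, ht⟩ => ⟨t.toAdd, ht⟩, fun ⟨t, ht⟩ => ⟨Multiplicative.ofAdd t, ht⟩⟩

theorem torus_normalizes (a : Fˣ) :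
    torus a ∈ Subgroup.normalizer (((PSL2.uSylow (F := F) 2 : Sylow 2 PSL) : Subgroup PSL) : Set PSL) := by
  refine Subgroup.mem_normalizer_iff.2 fun g => ?_
  constructor
  · intro hg
    obtain ⟨t, rfl⟩ := mem_uSylow.1 hg
    exact mem_uSylow.2 ⟨_, by rw [torus_uu, mul_inv_cancel_right]⟩
  · intro hg
    obtain ⟨t, ht⟩ := mem_uSylow.1 hg
    refine mem_uSylow.2 ⟨((a⁻¹ : Fˣ) : F) * ((a⁻¹ : Fˣ) : F) * t, ?_⟩
    have e := torus_uu a⁻¹ t
    rw [ht, map_inv] at e
    calc PSL2.uu (((a⁻¹ : Fˣ) : F) * ((a⁻¹ : Fˣ) : F) * t)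
        = PSL2.uu (((a⁻¹ : Fˣ) : F) * ((a⁻¹ : Fˣ) : F) * t) * (torus a)⁻¹ * torus a := by group
      _ = (torus a)⁻¹ * (torus a * g * (torus a)⁻¹) * torus a := by rw [← e]
      _ = g := by group

theorem eq_one_of_torus_centralizes {a : Fˣ}
    (h : torus a ∈ Subgroup.centralizer
      (((PSL2.uSylow (F := F) 2 : Sylow 2 PSL) : Subgroup PSL) : Set PSL)) : a = 1 := by
  have h1 := h (PSL2.uu 1) (mem_uSylow.2 ⟨1, rfl⟩)
  rw [torus_uu] at h1
  have h2 := PSL2.uu_injective (mul_right_cancel h1)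
  rw [mul_one] at h2
  refine Units.ext ?_
  rw [Units.val_one]
  have h3 : ((a : F) - 1) ^ 2 = 0 := by
    rw [CharTwo.sub_eq_add, CharTwo.add_sq, one_pow, pow_two, ← h2, CharTwo.add_self_eq_zero]
  exact sub_eq_zero.1 (pow_eq_zero_iff two_ne_zero |>.1 h3)

theorem torus_dvd : Fintype.card F - 1 ∣
    idx (PSL2.uSylow (F := F) 2 : Sylow 2 PSL) := by
  classical
  haveI := Fintype.ofFinite PSL
  set U := ((PSL2.uSylow (F := F) 2 : Sylow 2 PSL) : Subgroup PSL)
  set C := Subgroup.centralizer (U : Set PSL)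
  set N := Subgroup.normalizer (U : Set PSL)
  haveI : (C.subgroupOf N).Normal := Subgroup.normal_subgroupOf_of_le_normalizer
    (Blocks.normalizer_le_normalizer_cent U)
  let f : Fˣ →* N ⧸ C.subgroupOf N :=
    (QuotientGroup.mk' (C.subgroupOf N)).comp (torus.codRestrict N torus_normalizes)
  have hf : Function.Injective f := by
    rw [injective_iff_map_eq_one]
    intro a ha
    exact eq_one_of_torus_centralizes (Subgroup.mem_subgroupOf.1 ((QuotientGroup.eq_one_iff _).1 ha))
  have h := Subgroup.card_dvd_of_injective f hf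
  rwa [Nat.card_eq_fintype_card (α := Fˣ), Fintype.card_units, ← Subgroup.index_eq_card] at h

theorem cent_le_uSylow : Subgroup.centralizer
    (((PSL2.uSylow (F := F) 2 : Sylow 2 PSL) : Subgroup PSL) : Set PSL) ≤
      ((PSL2.uSylow (F := F) 2 : Sylow 2 PSL) : Subgroup PSL) := by
  classical
  haveI := Fintype.ofFinite PSL
  have h1 : PSL2.uu (1 : F) ∈ ((PSL2.uSylow (F := F) 2 : Sylow 2 PSL) : Subgroup PSL) :=
    mem_uSylow.2 ⟨1, rfl⟩
  have hne : PSL2.uu (1 : F) ≠ 1 := fun e => one_ne_zero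
    (PSL2.uu_injective (e.trans (map_one (PSL2.uHom (F := F))).symm : PSL2.uu (1 : F) = PSL2.uu 0))
  have ho : orderOf (PSL2.uu (1 : F)) = 2 := by
    refine orderOf_eq_prime ?_ hne
    rw [pow_two]
    show PSL2.uHom (Multiplicative.ofAdd (1 : F)) * PSL2.uHom (Multiplicative.ofAdd (1 : F)) = 1
    rw [← map_mul, ← ofAdd_add, CharTwo.add_self_eq_zero, ofAdd_zero, map_one]
  intro g hg
  have hc := DicksonFull.card_cent 2 ho
  have hle : ((PSL2.uSylow (F := F) 2 : Sylow 2 PSL) : Subgroup PSL) ≤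
      DicksonFull.cent (PSL2.uu (1 : F)) := by
    intro x hx
    obtain ⟨t, rfl⟩ := mem_uSylow.1 hx
    refine Subgroup.mem_centralizer_singleton_iff.2 ?_
    show PSL2.uHom (Multiplicative.ofAdd t) * PSL2.uHom (Multiplicative.ofAdd (1 : F)) =
      PSL2.uHom (Multiplicative.ofAdd (1 : F)) * PSL2.uHom (Multiplicative.ofAdd t)
    exact ((Commute.all (Multiplicative.ofAdd t) (Multiplicative.ofAdd (1 : F))).map PSL2.uHom).eq
  rw [Subgroup.eq_of_le_of_card_ge hle (by rw [hc, DicksonFull.card_uSylow])]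
  exact Subgroup.mem_centralizer_singleton_iff.2 (hg _ h1).symm

/-- `[[t, 1], [1, 0]]`. -/
def traceElt (t : F) : SL := ⟨!![t, 1; 1, 0], by simp [Matrix.det_fin_two, CharTwo.neg_eq]⟩

theorem card_classes : Fintype.card F + 1 ≤ Nat.card (ConjClasses PSL) := by
  classical
  haveI := Fintype.ofFinite PSL
  haveI := Fintype.ofFinite (ConjClasses PSL)
  let f : Option F → ConjClasses PSL := fun o =>
    o.elim (ConjClasses.mk 1) fun t => ConjClasses.mk (mk (traceElt t))
  have htr : ∀ {A B : SL}, IsConj (mk A) (mk B) → A.1.trace = B.1.trace := by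
    intro A B h
    obtain ⟨c, hc⟩ := isConj_iff.1 h
    obtain ⟨C, rfl⟩ := QuotientGroup.mk'_surjective _ c
    change mk C * mk A * (mk C)⁻¹ = mk B at hc
    rw [← map_inv, ← map_mul, ← map_mul] at hc
    rw [← mk_injective hc, Matrix.SpecialLinearGroup.coe_mul, Matrix.SpecialLinearGroup.coe_mul,
      Matrix.trace_mul_cycle, ← Matrix.SpecialLinearGroup.coe_mul, inv_mul_cancel,
      Matrix.SpecialLinearGroup.coe_one, one_mul]
  have hzero : (1 : SL).1.trace = (0 : F) := by
    rw [Matrix.SpecialLinearGroup.coe_one, Matrix.trace_one, Fintype.card_fin]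
    exact CharTwo.two_eq_zero
  have hne : ∀ t : F, ¬ IsConj (1 : PSL) (mk (traceElt t)) := by
    intro t h
    have h2 := mk_injective ((isConj_one_right.1 h).trans (map_one (PSL2.mk (F := F))).symm)
    have := congrFun (congrFun (congrArg Subtype.val h2) 0) 1
    simp [traceElt] at this
  have hf : Function.Injective f := by
    rintro (_ | s) (_ | t) h
    · rfl
    · exact absurd (ConjClasses.mk_eq_mk_iff_isConj.1 h) (hne t)
    · exact absurd (ConjClasses.mk_eq_mk_iff_isConj.1 h).symm (hne s)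
    · have := htr (ConjClasses.mk_eq_mk_iff_isConj.1 h)
      simpa [traceElt, Matrix.trace_fin_two] using this
  have := Fintype.card_le_of_injective f hf
  rwa [Fintype.card_option, ← Nat.card_eq_fintype_card (α := ConjClasses PSL)] at this

/-- All but one irreducible character lie in the principal block. -/
theorem card_principal_psl {M : Ideal AlgInt} (hM : IsPModular 2 M) (h4 : 4 ≤ Fintype.card F) :
    Fintype.card F ≤ Nat.card (principalBlock M PSL) := by
  classical
  haveI := Fintype.ofFinite PSL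
  haveI : Fact (Nat.Prime 2) := ⟨Nat.prime_two⟩
  have hone := (Cfsg.Agent.S4765.result 2 F h4).1
  have hsub : {χ : IrrCharacter PSL | ¬ 2 ∣ charDegree (χ : PSL → ℂ)} ⊆ principalBlock M PSL :=
    fun χ hχ => mem_principal_of_degree hM (PSL2.uSylow (F := F) 2) cent_le_uSylow hχ
  have h1 : Nat.card {χ : IrrCharacter PSL // ¬ 2 ∣ charDegree (χ : PSL → ℂ)} ≤
      Nat.card (principalBlock M PSL) :=
    Nat.card_mono (Set.toFinite _) hsub
  have h2 := card_irr_eq_card_conjClasses (G := PSL)
  haveI := Fintype.ofFinite (IrrCharacter PSL)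
  have h3 := Fintype.card_subtype_compl (fun χ : IrrCharacter PSL => 2 ∣ charDegree (χ : PSL → ℂ))
  simp only [← Nat.card_eq_fintype_card] at h3
  have h4' := card_classes (F := F)
  have hle : Nat.card {χ : IrrCharacter PSL // 2 ∣ charDegree (χ : PSL → ℂ)} ≤ 1 := hone.le
  omega

end even

end CfsgLib.AbPrincipal
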