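import Cfsg.Agent.Lib.AbPrincipal.Nine
import Cfsg.Agent.Lib.AbPrincipal.Counts

/-!
# An involution whose centraliser has a principal block of rank one
-/

namespace CfsgLib.AbPrincipal

open Cfsg CfsgLib.CharTheory CfsgLib.Blocks

set_option linter.unusedVariables false
set_option linter.style.haveILetI false
set_option linter.unusedSectionVars false

universe u

theorem exists_orderOf_fifteen {H : Type*} [Group H] [Finite H] (h : Nat.card H = 15) :
    ∃ x : H, orderOf x = 15 := by
  haveI : Fact (Nat.Prime 3) := ⟨Nat.prime_three⟩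
  haveI : Fact (Nat.Prime 5) := ⟨Nat.prime_five⟩
  have huniq : ∀ (p q : ℕ), p.Prime → p * q = 15 → ¬ p ∣ q → (∀ r, r ∣ q → r % p = 1 → r = 1) →
      ∀ S : Sylow p H, (S : Subgroup H).Normal ∧ Nat.card S = p := by
    intro p q hp hpq hnd hr S
    haveI := Fact.mk hp
    have hS : Nat.card S = p := by
      rw [S.card_eq_multiplicity, h, ← hpq, Nat.factorization_mul hp.ne_zero (by rintro rfl; simp at hpq),
        Finsupp.add_apply, hp.factorization_self, Nat.factorization_eq_zero_of_not_dvd hnd, pow_one]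
    refine ⟨?_, hS⟩
    have hi : (S : Subgroup H).index = q := by
      have := (S : Subgroup H).card_mul_index
      rw [h, hS] at this
      exact Nat.eq_of_mul_eq_mul_left hp.pos (this.trans hpq.symm)
    have h1 : Nat.card (Sylow p H) = 1 := hr _ (hi ▸ Sylow.card_dvd_index S) (by
      have := card_sylow_modEq_one p H
      rwa [Nat.ModEq, Nat.one_mod_eq_one.mpr hp.ne_one] at this)
    haveI : Subsingleton (Sylow p H) := (Nat.card_eq_one_iff_unique.mp h1).1
    exact Sylow.normal_of_subsingleton S
  obtain ⟨n3, c3⟩ := huniq 3 5 Nat.prime_three (by norm_num) (by norm_num) (fun r hr hm => by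
    have := Nat.le_of_dvd (by norm_num) hr
    interval_cases r <;> omega) default
  obtain ⟨n5, c5⟩ := huniq 5 3 Nat.prime_five (by norm_num) (by norm_num) (fun r hr hm => by
    have := Nat.le_of_dvd (by norm_num) hr
    interval_cases r <;> omega) default
  set A : Subgroup H := ((default : Sylow 3 H) : Subgroup H)
  set B : Subgroup H := ((default : Sylow 5 H) : Subgroup H)
  obtain ⟨a, ha⟩ := exists_prime_orderOf_dvd_card' (G := A) 3 (dvd_of_eq c3.symm)
  obtain ⟨b, hb⟩ := exists_prime_orderOf_dvd_card' (G := B) 5 (dvd_of_eq c5.symm)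
  have hd : Disjoint A B := disjoint_iff.mpr (Subgroup.inf_eq_bot_of_coprime (by rw [c3, c5]; norm_num))
  refine ⟨(a : H) * b, ?_⟩
  rw [(Subgroup.commute_of_normal_of_disjoint A B n3 n5 hd a b a.2 b.2).orderOf_mul_eq_mul_orderOf_of_coprime
    (by rw [Subgroup.orderOf_coe, Subgroup.orderOf_coe, ha, hb]; norm_num), Subgroup.orderOf_coe,
    Subgroup.orderOf_coe, ha, hb]
theorem arith_eight {e k Z : ℕ} (he : e = 3 ∨ e = 5 ∨ e = 7) (hZ : Z ∣ 8) (hne : Z ≠ 8)
    (h : e * k + Z = Z * (e * e) + 8) : k = 8 := by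
  have := Nat.le_of_dvd (by norm_num) hZ
  rcases he with rfl | rfl | rfl <;> interval_cases Z <;> omega

theorem arith_sixteen {e k Z : ℕ} (he : e = 3 ∨ e = 5 ∨ e = 7 ∨ e = 11 ∨ e = 13) (hZ : Z ∣ 16)
    (hne : Z ≠ 16) (h : e * k + Z = Z * (e * e) + 16) : k = 8 ∨ k = 16 := by
  have := Nat.le_of_dvd (by norm_num) hZ
  rcases he with rfl | rfl | rfl | rfl | rfl <;> interval_cases Z <;> omega

variable {M : Ideal AlgInt} {G : Type u} [Group G] [Fintype G]

/-- The possible block sizes. -/
theorem rank_one_counts (hM : IsPModular 2 M) (P : Sylow 2 G)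
    (hab : ∀ x ∈ (P : Subgroup G), ∀ y ∈ (P : Subgroup G), x * y = y * x) {x : G}
    (hx : x ∈ (P : Subgroup G)) (hx1 : x ≠ 1) (hl : lc 2 M x = 1) :
    (Nat.card P = 8 → Nat.card (principalBlock M G) = 8) ∧
    (Nat.card P = 16 → Nat.card (principalBlock M G) = 8 ∨ Nat.card (principalBlock M G) = 16) := by
  classical
  haveI : Fact (Nat.Prime 2) := ⟨Nat.prime_two⟩
  haveI := Fintype.ofFinite (Subgroup.centralizer ({x} : Set G))
  have hfx : FreeAt P x := inf_le_of_complement P hab hx (complement_of_blockRank hM hl)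
  set Q : Subgroup G := (P : Subgroup G) with hQ
  let _ : CommGroup Q :=
    { (inferInstance : Group Q) with mul_comm := fun a b => Subtype.ext (hab a a.2 b b.2) }
  set a : Q := ⟨x, hx⟩ with ha
  have hstab : Nat.card (NineAut.stab (aut P) a) = 1 := by
    have h := card_inf_centralizer P hab a
    rw [show ((a : Q) : G) = x from rfl, card_inf_of_free P hab hx hfx] at h
    exact Nat.eq_of_mul_eq_mul_left Nat.card_pos (h.symm.trans (mul_one _).symm)
  have horb : Nat.card (NineAut.orb (aut P) a) = idx P := by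
    have h := NineAut.card_orb (aut P) a
    rwa [hstab, mul_one, card_aut] at h
  have hsub : NineAut.orb (aut P) a ⊆ ({1}ᶜ : Set Q) := by
    rintro _ ⟨β, -, rfl⟩ h
    exact hx1 (congrArg Subtype.val (β.injective (Eq.trans h (map_one β).symm) : a = 1))
  have hcompl : ({1}ᶜ : Set Q).ncard = Nat.card P - 1 := by
    rw [Set.ncard_compl, Set.ncard_singleton]
  have hle : idx P ≤ Nat.card P - 1 := by
    rw [← horb, ← hcompl, Nat.card_coe_set_eq]
    exact Set.ncard_le_ncard hsub
  obtain ⟨m, hm⟩ := idx_odd (P := P) hab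
  have hP1 : (P : Subgroup G) ≠ ⊥ := fun e => hx1 (Subgroup.mem_bot.1 (e ▸ hx))
  -- the prime case
  have hprime : (idx P).Prime → ∃ Z, Z ∣ Nat.card P ∧ Z ≠ Nat.card P ∧
      idx P * Nat.card (principalBlock M G) + Z = Z * (idx P * idx P) + Nat.card P := by
    intro he
    refine ⟨Nat.card (fixP P), Subgroup.card_dvd_of_le inf_le_left, fun e => ?_,
      (semi_counts hM (semi_of_prime hab he)).2.1⟩
    have hfix : fixP P = (P : Subgroup G) := Subgroup.eq_of_le_of_card_ge inf_le_left e.ge
    have hxf : x ∈ fixP P := hfix.symm ▸ hx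
    have h1 : idx P = 1 := Subgroup.relIndex_eq_one.2 fun g hg =>
      hfx ⟨hg, Subgroup.mem_centralizer_singleton_iff.2 (hxf.2 g hg)⟩
    exact he.ne_one h1
  have hone : idx P = 1 → Nat.card (principalBlock M G) = Nat.card P := by
    intro h1
    have hf : ∀ y ∈ (P : Subgroup G), y ≠ 1 → FreeAt P y := fun y _ _ =>
      inf_le_left.trans (Subgroup.relIndex_eq_one.1 h1)
    have h := ((counts_free hM P hab hP1 hf).2.2.2 (by omega)).1
    rw [h1, Nat.div_one] at h
    have := Nat.card_pos (α := P)
    omega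
  constructor
  · intro h8
    have h8' : Nat.card (P : Subgroup G) = 8 := h8
    rcases (by omega : idx P = 1 ∨ idx P = 3 ∨ idx P = 5 ∨ idx P = 7) with h | h
    · rw [hone h, h8]
    · obtain ⟨Z, hZ, hne, heq⟩ := hprime (by rcases h with h | h | h <;> rw [h] <;> norm_num)
      rw [h8] at hZ hne heq
      exact arith_eight h hZ hne heq
  · intro h16
    have h16' : Nat.card (P : Subgroup G) = 16 := h16
    rcases (by omega : idx P = 1 ∨ (idx P = 3 ∨ idx P = 5 ∨ idx P = 7 ∨ idx P = 11 ∨ idx P = 13) ∨
      idx P = 9 ∨ idx P = 15) with h | h | h | h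
    · exact Or.inr (by rw [hone h, h16])
    · obtain ⟨Z, hZ, hne, heq⟩ := hprime (by rcases h with h | h | h | h | h <;> rw [h] <;> norm_num)
      rw [h16] at hZ hne heq
      exact arith_sixteen h hZ hne heq
    · exact Or.inr (nine hM P hab h16 h).1
    · -- the automiser is cyclic and transitive
      have horbeq : NineAut.orb (aut P) a = ({1}ᶜ : Set Q) :=
        Set.eq_of_subset_of_ncard_le hsub (by
          rw [hcompl, ← Nat.card_coe_set_eq, horb, h16, h]) (Set.toFinite _)
      have hfree : ∀ y ∈ (P : Subgroup G), y ≠ 1 → FreeAt P y := by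
        intro y hy hy1
        set b : Q := ⟨y, hy⟩ with hb
        have hmem : b ∈ NineAut.orb (aut P) a :=
          horbeq.symm ▸ fun e : b = 1 => hy1 (congrArg Subtype.val e)
        obtain ⟨β, hβ, hβa⟩ := hmem
        have hst : Nat.card (NineAut.stab (aut P) b) = 1 := by
          refine le_antisymm ?_ Nat.card_pos
          rw [← hstab]
          refine Nat.card_le_card_of_injective
            (fun γ => (⟨β⁻¹ * γ.1 * β, mul_mem (mul_mem (inv_mem hβ) γ.2.1) hβ, ?_⟩ :
              NineAut.stab (aut P) a)) fun γ δ e => ?_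
          · rw [MulAut.mul_apply, MulAut.mul_apply, hβa, γ.2.2, ← hβa, MulAut.inv_apply,
              MulEquiv.symm_apply_apply]
          · exact Subtype.ext (mul_left_cancel (mul_right_cancel (congrArg Subtype.val e)))
        have h' := card_inf_centralizer P hab b
        rw [hst, mul_one] at h'
        exact (Subgroup.eq_of_le_of_card_ge (le_inf (Subgroup.centralizer_le_normalizer _)
          (Subgroup.centralizer_le (Set.singleton_subset_iff.2 hy))) h'.le).ge
      set C := Subgroup.centralizer (Q : Set G) with hC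
      set N := Subgroup.normalizer (Q : Set G) with hN
      haveI : (C.subgroupOf N).Normal := Subgroup.normal_subgroupOf_of_le_normalizer
        (normalizer_le_normalizer_cent (P : Subgroup G))
      have hq : Nat.card (N ⧸ C.subgroupOf N) = 15 := by
        rw [← Subgroup.index_eq_card]; exact h
      obtain ⟨g, hg⟩ := exists_orderOf_fifteen hq
      haveI := isCyclic_of_orderOf_eq_card g (hg.trans hq.symm)
      have hS : Semi P := by
        refine ⟨hab, by omega, fun y hy hyf => hfree y hy fun e => hyf (e ▸ (fixP P).one_mem),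
          fun u hu v hv => ?_⟩
        letI := IsCyclic.commGroup (α := N ⧸ C.subgroupOf N)
        have h1 : ((⟨u, hu⟩ * ⟨v, hv⟩ * (⟨u, hu⟩ : N)⁻¹ * (⟨v, hv⟩ : N)⁻¹ : N) :
            N ⧸ C.subgroupOf N) = 1 := by
          rw [QuotientGroup.mk_mul, QuotientGroup.mk_mul, QuotientGroup.mk_mul,
            QuotientGroup.mk_inv, QuotientGroup.mk_inv]
          rw [mul_comm ((⟨u, hu⟩ : N) : N ⧸ C.subgroupOf N), mul_inv_cancel_right, mul_inv_cancel]
        exact Subgroup.mem_subgroupOf.1 ((QuotientGroup.eq_one_iff _).1 h1)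
      obtain ⟨hl15, -, -⟩ := semi_counts hM hS
      have hk := (counts_free hM P hab hP1 hfree).2.2.1.2 hl15
      rw [h, h16] at hk
      exact Or.inr (by omega)

end CfsgLib.AbPrincipal
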