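import Cfsg.Agent.Lib.AbPrincipal.Free
import Cfsg.Agent.Lib.ZStar.Powers
import Cfsg.Agent.Lib.ExtremelyClosed.Descent
import Cfsg.Agent.Lib.Blocks.RankQuotient

/-!
# The general statement for automisers acting freely outside their fixed points
-/

namespace CfsgLib.AbPrincipal

open Cfsg CfsgLib.CharTheory CfsgLib.Blocks

set_option linter.unusedVariables false
set_option linter.style.haveILetI false
set_option linter.unusedSectionVars false

universe u

variable {M : Ideal AlgInt} {G : Type u} [Group G] [Fintype G]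

/-- The fixed points of the Sylow normaliser on the Sylow subgroup. -/
def fixP {p : ℕ} (P : Sylow p G) : Subgroup G :=
  (P : Subgroup G) ⊓
    Subgroup.centralizer ((Subgroup.normalizer ((P : Subgroup G) : Set G) : Subgroup G) : Set G)

/-- The hypotheses on the automiser. -/
structure Semi (P : Sylow 2 G) : Prop where
  comm : ∀ x ∈ (P : Subgroup G), ∀ y ∈ (P : Subgroup G), x * y = y * x
  one_lt : 1 < idx P
  split : ∀ y ∈ (P : Subgroup G), y ∉ fixP P → FreeAt P y
  abelian : ∀ a ∈ Subgroup.normalizer ((P : Subgroup G) : Set G),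
    ∀ b ∈ Subgroup.normalizer ((P : Subgroup G) : Set G),
      a * b * a⁻¹ * b⁻¹ ∈ Subgroup.centralizer ((P : Subgroup G) : Set G)

variable {P : Sylow 2 G}

theorem idx_odd (hab : ∀ x ∈ (P : Subgroup G), ∀ y ∈ (P : Subgroup G), x * y = y * x) :
    Odd (idx P) := by
  haveI : Fact (Nat.Prime 2) := ⟨Nat.prime_two⟩
  have hPC : (P : Subgroup G) ≤ Subgroup.centralizer ((P : Subgroup G) : Set G) := fun x hx =>
    Subgroup.mem_centralizer_iff.2 fun y hy => hab y hy x hx
  rw [Nat.odd_iff, ← Nat.two_dvd_ne_zero]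
  intro h2
  exact P.not_dvd_index ((h2.trans (Subgroup.relIndex_dvd_of_le_left _ hPC)).trans
    ((dvd_mul_right _ _).trans (Subgroup.relIndex_mul_index (Subgroup.le_normalizer)).dvd))

theorem pow_idx_mem {n : G} (hn : n ∈ Subgroup.normalizer ((P : Subgroup G) : Set G)) :
    n ^ idx P ∈ Subgroup.centralizer ((P : Subgroup G) : Set G) := by
  set C := Subgroup.centralizer ((P : Subgroup G) : Set G)
  set N := Subgroup.normalizer ((P : Subgroup G) : Set G)
  haveI : (C.subgroupOf N).Normal := Subgroup.normal_subgroupOf_of_le_normalizer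
    (normalizer_le_normalizer_cent (P : Subgroup G))
  have h : ((⟨n, hn⟩ : N) : N ⧸ C.subgroupOf N) ^ idx P = 1 := by
    rw [idx, Subgroup.relIndex, Subgroup.index_eq_card]
    exact pow_card_eq_one'
  rw [← QuotientGroup.mk_pow, QuotientGroup.eq_one_iff] at h
  simpa [Subgroup.mem_subgroupOf] using h

/-- A normaliser element moving `x` by a fixed element does not move it. -/
theorem fix_of_shift (hab : ∀ x ∈ (P : Subgroup G), ∀ y ∈ (P : Subgroup G), x * y = y * x)
    {n x z : G} (hn : n ∈ Subgroup.normalizer ((P : Subgroup G) : Set G))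
    (hx : x ∈ (P : Subgroup G)) (hz : z ∈ fixP P) (h : n * x * n⁻¹ = z * x) :
    n * x * n⁻¹ = x := by
  have hzn : n * z * n⁻¹ = z := by
    rw [hz.2 n hn, mul_inv_cancel_right]
  have hiter : ∀ j : ℕ, n ^ j * x * (n ^ j)⁻¹ = z ^ j * x := by
    intro j
    induction j with
    | zero => simp
    | succ j ih =>
      calc n ^ (j + 1) * x * (n ^ (j + 1))⁻¹ = n * (n ^ j * x * (n ^ j)⁻¹) * n⁻¹ := by
            rw [pow_succ']; group
        _ = n * (z ^ j * x) * n⁻¹ := by rw [ih]
        _ = (n * z * n⁻¹) ^ j * (n * x * n⁻¹) := by rw [conj_pow]; group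
        _ = z ^ j * (z * x) := by rw [hzn, h]
        _ = z ^ (j + 1) * x := by rw [pow_succ, mul_assoc]
  have h1 := hiter (idx P)
  rw [← Subgroup.mem_centralizer_iff.1 (pow_idx_mem hn) x hx, mul_inv_cancel_right] at h1
  have hz1 : z ^ idx P = 1 := by
    exact mul_right_cancel (h1.symm.trans (one_mul x).symm)
  obtain ⟨k, hk⟩ := IsPGroup.iff_orderOf.1 P.2 ⟨z, hz.1⟩
  rw [← Subgroup.orderOf_coe] at hk
  have hcop : (2 ^ k).Coprime (idx P) := (Nat.coprime_two_left.2 (idx_odd hab)).pow_left k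
  have : z = 1 := orderOf_eq_one_iff.1
    (Nat.eq_one_of_dvd_coprimes hcop (show orderOf z ∣ 2 ^ k from hk ▸ dvd_rfl)
      (orderOf_dvd_of_pow_eq_one hz1))
  rw [h, this, one_mul]

/-- Fixed points are central modulo the odd core. -/
theorem fixP_le_center (hab : ∀ x ∈ (P : Subgroup G), ∀ y ∈ (P : Subgroup G), x * y = y * x)
    (hO : pPrimeCore 2 G = ⊥) : fixP P = (P : Subgroup G) ⊓ Subgroup.center G := by
  haveI : Fact (Nat.Prime 2) := ⟨Nat.prime_two⟩
  haveI : IsMulCommutative (P : Subgroup G) := ⟨⟨fun a b => Subtype.ext (hab a a.2 b b.2)⟩⟩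
  refine le_antisymm (fun z hz => ⟨hz.1, ?_⟩)
    (inf_le_inf_left _ (Subgroup.center_le_centralizer _))
  have hstar : InZStar 2 z := ZStar.inZStar_of_powers (Nat.card G) G rfl P z hz.1 (fun i g hg => by
    obtain ⟨n, hn, e⟩ := P.conj_eq_normalizer_conj_of_mem (z ^ i) g⁻¹
      ((P : Subgroup G).pow_mem hz.1 i) (by rwa [inv_inv])
    rw [inv_inv] at e
    have hc : n⁻¹ * z ^ i = z ^ i * n⁻¹ :=
      ((show Commute n⁻¹ z from hz.2 n⁻¹ (inv_mem hn)).pow_right i).eq
    rw [e, hc, inv_mul_cancel_right])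
  refine Subgroup.mem_center_iff.2 fun g => ?_
  have h := hstar g
  rw [hO, Subgroup.mem_bot, mul_inv_eq_one, mul_inv_eq_iff_eq_mul] at h
  exact h

section central

variable (hS : Semi P) (hO : pPrimeCore 2 G = ⊥)

include hS hO

theorem central_case (hM : IsPModular 2 M) :
    blockRank 2 (principalBlock M G) = idx P ∧
      idx P * Nat.card (principalBlock M G) + Nat.card (fixP P) =
        Nat.card (fixP P) * (idx P * idx P) + Nat.card P ∧
      (¬ Group.IsSolvable G → Nat.card P = Nat.card (fixP P) * (idx P + 1)) := by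
  classical
  haveI : Fact (Nat.Prime 2) := ⟨Nat.prime_two⟩
  have hfix := fixP_le_center hS.comm hO
  set Z := fixP P with hZdef
  have hZc : Z ≤ Subgroup.center G := hfix.le.trans inf_le_right
  haveI hZn : Z.Normal := ⟨fun z hz g => by
    rw [Subgroup.mem_center_iff.1 (hZc hz) g, mul_inv_cancel_right]; exact hz⟩
  have hZ2 : IsPGroup 2 Z := P.2.to_le inf_le_left
  haveI : Fintype (G ⧸ Z) := Fintype.ofFinite _
  set π := QuotientGroup.mk' Z with hπ
  have hπs : Function.Surjective π := QuotientGroup.mk'_surjective Z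
  set Q : Sylow 2 (G ⧸ Z) := P.mapSurjective hπs with hQ
  have hQc : (Q : Subgroup (G ⧸ Z)) = (P : Subgroup G).map π := rfl
  have hcomap : (Q : Subgroup (G ⧸ Z)).comap π = (P : Subgroup G) := by
    rw [hQc, Subgroup.comap_map_eq, hπ, QuotientGroup.ker_mk', sup_eq_left]
    exact inf_le_left
  have hQab : ∀ x ∈ (Q : Subgroup (G ⧸ Z)), ∀ y ∈ (Q : Subgroup (G ⧸ Z)), x * y = y * x := by
    rintro _ ⟨a, ha, rfl⟩ _ ⟨b, hb, rfl⟩
    rw [← map_mul, ← map_mul, hS.comm a ha b hb]
  have hN : ∀ n : G, π n ∈ Subgroup.normalizer ((Q : Subgroup (G ⧸ Z)) : Set (G ⧸ Z)) ↔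
      n ∈ Subgroup.normalizer ((P : Subgroup G) : Set G) := by
    intro n
    rw [← Subgroup.mem_comap, Subgroup.comap_normalizer_eq_of_surjective _ hπs, hcomap]
  have hshift : ∀ n x : G, n ∈ Subgroup.normalizer ((P : Subgroup G) : Set G) →
      x ∈ (P : Subgroup G) → π n * π x = π x * π n → n * x * n⁻¹ = x := by
    intro n x hn hx h
    have hz : n * x * n⁻¹ * x⁻¹ ∈ Z := by
      rw [← QuotientGroup.eq_one_iff]
      show π (n * x * n⁻¹ * x⁻¹) = 1
      rw [map_mul, map_mul, map_mul, map_inv, map_inv, h, mul_inv_cancel_right, mul_inv_cancel]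
    exact fix_of_shift hS.comm hn hx hz (by group)
  have hC : ∀ n : G, n ∈ Subgroup.normalizer ((P : Subgroup G) : Set G) →
      (π n ∈ Subgroup.centralizer ((Q : Subgroup (G ⧸ Z)) : Set (G ⧸ Z)) ↔
        n ∈ Subgroup.centralizer ((P : Subgroup G) : Set G)) := by
    intro n hn
    constructor
    · intro h x hx
      exact (mul_inv_eq_iff_eq_mul.1 (hshift n x hn hx (h _ ⟨x, hx, rfl⟩).symm)).symm
    · rintro h _ ⟨x, hx, rfl⟩
      rw [← map_mul, ← map_mul, h x hx]
  have hidx : idx Q = idx P := by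
    unfold idx
    have hmap : Subgroup.normalizer ((Q : Subgroup (G ⧸ Z)) : Set (G ⧸ Z)) =
        (Subgroup.normalizer ((P : Subgroup G) : Set G)).map π := by
      ext q
      constructor
      · intro hq
        obtain ⟨n, rfl⟩ := hπs q
        exact ⟨n, (hN n).1 hq, rfl⟩
      · rintro ⟨n, hn, rfl⟩
        exact (hN n).2 hn
    rw [hmap, ← Subgroup.relIndex_comap, ← Subgroup.inf_relIndex_right,
      ← Subgroup.inf_relIndex_right (H := Subgroup.centralizer ((P : Subgroup G) : Set G))]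
    congr 1
    ext n
    constructor
    · rintro ⟨h1, h2⟩
      exact ⟨(hC n h2).1 h1, h2⟩
    · rintro ⟨h1, h2⟩
      exact ⟨(hC n h2).2 h1, h2⟩
  have hQfree : ∀ y ∈ (Q : Subgroup (G ⧸ Z)), y ≠ 1 → FreeAt Q y := by
    rintro _ ⟨x, hx, rfl⟩ hne m ⟨hm1, hm2⟩
    obtain ⟨n, rfl⟩ := hπs m
    have hn := (hN n).1 hm1
    have hxZ : x ∉ fixP P := fun h => hne ((QuotientGroup.eq_one_iff x).2 h)
    refine (hC n hn).2 (hS.split x hx hxZ ⟨hn, Subgroup.mem_centralizer_singleton_iff.2 ?_⟩)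
    exact mul_inv_eq_iff_eq_mul.1
      (hshift n x hn hx (Subgroup.mem_centralizer_singleton_iff.1 hm2))
  have hQcomm : ∀ a ∈ Subgroup.normalizer ((Q : Subgroup (G ⧸ Z)) : Set (G ⧸ Z)),
      ∀ b ∈ Subgroup.normalizer ((Q : Subgroup (G ⧸ Z)) : Set (G ⧸ Z)),
        a * b * a⁻¹ * b⁻¹ ∈ Subgroup.centralizer ((Q : Subgroup (G ⧸ Z)) : Set (G ⧸ Z)) := by
    intro a ha b hb
    obtain ⟨a, rfl⟩ := hπs a
    obtain ⟨b, rfl⟩ := hπs b
    have ha' := (hN a).1 ha
    have hb' := (hN b).1 hb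
    rw [← map_inv, ← map_inv, ← map_mul, ← map_mul, ← map_mul]
    exact (hC _ (mul_mem (mul_mem (mul_mem ha' hb') (inv_mem ha')) (inv_mem hb'))).2
      (hS.abelian a ha' b hb')
  obtain ⟨hl, hns⟩ := free_case hM Q hQab
    (ExtClosed.pPrimeCore_quotient_central Z hZ2 hZc hO)
    (hidx ▸ hS.one_lt) hQfree hQcomm
  have hrank : blockRank 2 (principalBlock M G) = blockRank 2 (principalBlock M (G ⧸ Z)) :=
    blockRank_principal_quotient hM hZ2 (eq_top_iff.2 fun g _ => Subgroup.mem_sup_right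
      fun z hz => (Subgroup.mem_center_iff.1 (hZc hz) g).symm)
  have hl' : blockRank 2 (principalBlock M G) = idx P := by rw [hrank, hl, hidx]
  refine ⟨hl', ?_, fun hn => ?_⟩
  · have h := count_central hM P hS.comm fun y hy hyc =>
      hS.split y hy fun h => hyc (hZc h)
    rw [← hfix, hl'] at h
    exact h
  · have hcard : Nat.card P = Nat.card Z * Nat.card Q := by
      have h1 := Subgroup.relIndex_ker (K := (P : Subgroup G)) π
      rw [hπ, QuotientGroup.ker_mk'] at h1
      rw [show Nat.card Q = Z.relIndex (P : Subgroup G) from h1.symm, Subgroup.relIndex,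
        ← Nat.card_congr (Subgroup.subgroupOfEquivOfLe (show Z ≤ (P : Subgroup G) from inf_le_left)).toEquiv,
        Subgroup.card_mul_index]
    have hn' : ¬ Group.IsSolvable (G ⧸ Z) := fun h => hn
      (HallE8.isSolvable_of_ext Z (by haveI := hZ2.isNilpotent; infer_instance) h)
    rw [hcard, hns hn', hidx]

end central

theorem mem_fixP_coreSylow (P : Sylow 2 G) {x : G} (hx : x ∈ (P : Subgroup G)) :
    (x : G ⧸ pPrimeCore 2 G) ∈ fixP (coreSylow P) ↔ x ∈ fixP P := by
  haveI : Fact (Nat.Prime 2) := ⟨Nat.prime_two⟩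
  constructor
  · rintro ⟨-, h⟩
    refine ⟨hx, fun n hn => ?_⟩
    have h1 := h (QuotientGroup.mk' _ n) (normalizer_coreSylow P ▸ ⟨n, hn, rfl⟩)
    rw [QuotientGroup.mk'_apply] at h1
    exact mul_inv_eq_iff_eq_mul.1 (mk_injOn_sylow P ((Subgroup.mem_normalizer_iff.1 hn x).1 hx) hx
      (by rw [QuotientGroup.mk_mul, QuotientGroup.mk_mul, QuotientGroup.mk_inv, h1,
        mul_inv_cancel_right]))
  · rintro ⟨-, h⟩
    refine ⟨⟨x, hx, rfl⟩, fun m hm => ?_⟩
    rw [normalizer_coreSylow] at hm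
    obtain ⟨n, hn, rfl⟩ := hm
    rw [QuotientGroup.mk'_apply, ← QuotientGroup.mk_mul, ← QuotientGroup.mk_mul, h n hn]

theorem card_fixP_coreSylow (P : Sylow 2 G) :
    Nat.card (fixP (coreSylow P)) = Nat.card (fixP P) := by
  haveI : Fact (Nat.Prime 2) := ⟨Nat.prime_two⟩
  symm
  refine Nat.card_congr (Equiv.ofBijective
    (fun x : fixP P => (⟨(x.1 : G ⧸ pPrimeCore 2 G), (mem_fixP_coreSylow P x.2.1).2 x.2⟩ :
      fixP (coreSylow P))) ⟨fun a b h => ?_, ?_⟩)
  · exact Subtype.ext (mk_injOn_sylow P a.2.1 b.2.1 (congrArg Subtype.val h))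
  · rintro ⟨q, hq⟩
    obtain ⟨x, hx, rfl⟩ := hq.1
    exact ⟨⟨x, (mem_fixP_coreSylow P hx).1 hq⟩, rfl⟩

theorem semi_coreSylow (hS : Semi P) : Semi (coreSylow P) := by
  haveI : Fact (Nat.Prime 2) := ⟨Nat.prime_two⟩
  refine ⟨coreSylow_comm P hS.comm, (idx_coreSylow P).symm ▸ hS.one_lt, ?_, ?_⟩
  · rintro _ ⟨x, hx, rfl⟩ hne m ⟨hm1, hm2⟩
    rw [normalizer_coreSylow] at hm1
    obtain ⟨n, hn, rfl⟩ := hm1
    have h1 := Subgroup.mem_centralizer_singleton_iff.1 hm2
    refine (mk_centralizes_iff P hn).2 (hS.split x hx (fun h => hne ((mem_fixP_coreSylow P hx).2 h))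
      ⟨hn, Subgroup.mem_centralizer_singleton_iff.2 (mul_inv_eq_iff_eq_mul.1 ?_)⟩)
    refine mk_injOn_sylow P ((Subgroup.mem_normalizer_iff.1 hn x).1 hx) hx ?_
    simp only [QuotientGroup.mk'_apply] at h1
    rw [QuotientGroup.mk_mul, QuotientGroup.mk_mul, QuotientGroup.mk_inv, h1, mul_inv_cancel_right]
  · rw [normalizer_coreSylow]
    rintro _ ⟨a, ha, rfl⟩ _ ⟨b, hb, rfl⟩
    rw [← map_inv, ← map_inv, ← map_mul, ← map_mul, ← map_mul]
    exact (mk_centralizes_iff P (mul_mem (mul_mem (mul_mem ha hb) (inv_mem ha)) (inv_mem hb))).2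
      (hS.abelian a ha b hb)

/-- Principal block invariants for automisers acting freely outside their fixed points. -/
theorem semi_counts (hM : IsPModular 2 M) (hS : Semi P) :
    blockRank 2 (principalBlock M G) = idx P ∧
      idx P * Nat.card (principalBlock M G) + Nat.card (fixP P) =
        Nat.card (fixP P) * (idx P * idx P) + Nat.card P ∧
      (¬ Group.IsSolvable G → Nat.card P = Nat.card (fixP P) * (idx P + 1)) := by
  haveI : Fact (Nat.Prime 2) := ⟨Nat.prime_two⟩
  haveI : Fintype (G ⧸ pPrimeCore 2 G) := Fintype.ofFinite _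
  obtain ⟨h1, h2, h3⟩ := central_case (semi_coreSylow hS) pPrimeCore_coreSylow hM
  rw [blockRank_quot _ hM not_dvd_core, idx_coreSylow] at h1
  rw [idx_coreSylow, card_fixP_coreSylow, card_principalBlock_quot _ hM not_dvd_core,
    card_coreSylow] at h2
  refine ⟨h1, h2, fun hn => ?_⟩
  have := h3 fun h => hn (solvable_of_quot_two h)
  rwa [idx_coreSylow, card_fixP_coreSylow, card_coreSylow] at this

end CfsgLib.AbPrincipal
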