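import Cfsg.Agent.Lib.AbPrincipal.Counts
import Cfsg.Agent.Lib.AbPrincipal.Psl
import Cfsg.Agent.Lib.AbPrincipal.Core
import Cfsg.Agent.Lib.PSolvable
import Mathlib.GroupTheory.FiniteAbelian.Duality
import Mathlib.RingTheory.RootsOfUnity.AlgebraicallyClosed
import Mathlib.Analysis.Complex.Polynomial.Basic

/-!
# Lemmas for the free case
-/

namespace CfsgLib.AbPrincipal

open Cfsg CfsgLib.CharTheory CfsgLib.Blocks

set_option linter.unusedVariables false
set_option linter.style.haveILetI false
set_option linter.unusedSectionVars false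

universe u v

variable {p : ℕ} {M : Ideal AlgInt}

theorem centralizer_map_singleton {K : Type u} {L : Type v} [Group K] [Group L] (e : K ≃* L)
    (k : K) : (Subgroup.centralizer ({k} : Set K)).map (e : K →* L) =
      Subgroup.centralizer ({e k} : Set L) := by
  ext l
  rw [Subgroup.mem_map, Subgroup.mem_centralizer_singleton_iff]
  constructor
  · rintro ⟨x, hx, rfl⟩
    simpa using congrArg e (Subgroup.mem_centralizer_singleton_iff.1 hx)
  · intro h
    refine ⟨e.symm l, Subgroup.mem_centralizer_singleton_iff.2 ?_, e.apply_symm_apply l⟩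
    simpa using congrArg e.symm h

/-- Isomorphic groups have principal blocks of the same size. -/
theorem card_principal_equiv {K : Type u} {L : Type v} [Group K] [Group L] [Finite K] [Finite L]
    (e : K ≃* L) : Nat.card (principalBlock M K) = Nat.card (principalBlock M L) := by
  have key : ∀ (χ : L → ℂ) (k : K), centralChar (fun x => χ (e x)) k = centralChar χ (e k) := by
    intro χ k
    simp only [centralChar, map_one]
    rw [← centralizer_map_singleton e k, Subgroup.index_map_equiv]
  let f : IrrCharacter L → IrrCharacter K := fun χ =>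
    ⟨fun k => (χ : L → ℂ) (e k),
      isIrrCharacter_comp_surjective χ.2 e.toMonoidHom e.surjective⟩
  let g : IrrCharacter K → IrrCharacter L := fun ψ =>
    ⟨fun l => (ψ : K → ℂ) (e.symm l),
      isIrrCharacter_comp_surjective ψ.2 e.symm.toMonoidHom e.symm.surjective⟩
  have hgf : ∀ χ, g (f χ) = χ := fun χ => Subtype.ext (funext fun l => by simp [f, g])
  have hfg : ∀ ψ, f (g ψ) = ψ := fun ψ => Subtype.ext (funext fun k => by simp [f, g])
  have hmem : ∀ χ, f χ ∈ principalBlock M K ↔ χ ∈ principalBlock M L := by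
    intro χ
    show (∀ k, MemLocalIdeal M (centralChar (fun _ : K => (1 : ℂ)) k -
      centralChar (fun x => (χ : L → ℂ) (e x)) k)) ↔ ∀ l, MemLocalIdeal M
        (centralChar (fun _ : L => (1 : ℂ)) l - centralChar (χ : L → ℂ) l)
    refine ⟨fun h l => ?_, fun h k => ?_⟩
    · have h' := h (e.symm l)
      rw [key, show centralChar (fun _ : K => (1 : ℂ)) (e.symm l) =
        centralChar (fun _ : L => (1 : ℂ)) (e (e.symm l)) from key (fun _ => 1) _,
        e.apply_symm_apply] at h'
      exact h'
    · rw [key, show centralChar (fun _ : K => (1 : ℂ)) k =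
        centralChar (fun _ : L => (1 : ℂ)) (e k) from key (fun _ => 1) k]
      exact h (e k)
  exact (Nat.card_congr ((Equiv.mk f g hgf hfg).subtypeEquiv fun χ => (hmem χ).symm)).symm

theorem pPrimeCore_normal_eq_bot {G : Type u} [Group G] [Finite G] (h : pPrimeCore p G = ⊥)
    (L : Subgroup G) [L.Normal] : pPrimeCore p L = ⊥ := by
  have h1 : (pPrimeCore p L).map L.subtype ≤ pPrimeCore p G := by
    refine le_sSup ⟨ConjAct.normal_of_characteristic_of_normal, ?_⟩
    rw [Subgroup.card_map_of_injective L.subtype_injective]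
    exact CfsgLib.card_pPrimeCore_coprime p
  rw [h, le_bot_iff, Subgroup.map_eq_bot_iff_of_injective _ L.subtype_injective] at h1
  exact h1

variable {G : Type u} [Group G] [Fintype G]

/-- A regular element of a quotient lifts to a regular element. -/
theorem exists_regular_lift'' (hp : p.Prime) (N : Subgroup G) [N.Normal] {q : G ⧸ N}
    (hq : ¬ p ∣ orderOf q) : ∃ g : G, (g : G ⧸ N) = q ∧ ¬ p ∣ orderOf g := by
  obtain ⟨g, rfl⟩ := QuotientGroup.mk_surjective q
  obtain ⟨x, y, h, hc, ⟨k, hx⟩, hy, hxm, -⟩ := exists_pPart hp g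
  refine ⟨y, ?_, hy⟩
  have hmem : x ∈ N := by
    rw [← QuotientGroup.eq_one_iff, ← orderOf_eq_one_iff]
    refine Nat.eq_one_of_dvd_coprimes ((hp.coprime_iff_not_dvd.2 hq).pow_left k)
      (hx ▸ orderOf_map_dvd (QuotientGroup.mk' N) x) ?_
    obtain ⟨m, hm⟩ := Subgroup.mem_zpowers_iff.1 hxm
    rw [← hm, QuotientGroup.mk_zpow]
    exact orderOf_dvd_of_mem_zpowers (Subgroup.zpow_mem_zpowers _ m)
  rw [← h, QuotientGroup.mk_mul, (QuotientGroup.eq_one_iff x).2 hmem, one_mul]

variable [Fact p.Prime]

/-- Linear characters give as many regular parts as the abelian quotient has elements. -/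
theorem le_blockRank_abelian (hM : IsPModular p M) (P : Sylow p G) [(P : Subgroup G).Normal]
    (hself : Subgroup.centralizer ((P : Subgroup G) : Set G) ≤ (P : Subgroup G))
    (hcomm : ∀ a b : G ⧸ (P : Subgroup G), a * b = b * a) :
    (P : Subgroup G).index ≤ blockRank p (principalBlock M G) := by
  classical
  set Q := G ⧸ (P : Subgroup G)
  letI : CommGroup Q := { (inferInstance : Group Q) with mul_comm := hcomm }
  haveI : Finite (Q →* ℂˣ) := inferInstance
  haveI := Fintype.ofFinite (Q →* ℂˣ)
  have hcard : Nat.card (Q →* ℂˣ) = (P : Subgroup G).index := by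
    haveI : NeZero (Monoid.exponent Q) := ⟨Monoid.exponent_ne_zero_of_finite⟩
    rw [CommGroup.card_monoidHom_of_hasEnoughRootsOfUnity Q ℂ, Subgroup.index_eq_card]
  let lin : (Q →* ℂˣ) → IrrCharacter G := fun l =>
    ⟨_, isIrrCharacter_linear (l.comp (QuotientGroup.mk' (P : Subgroup G)))⟩
  have hmem : ∀ l, lin l ∈ principalBlock M G := by
    intro l
    refine mem_principal_of_degree hM P hself ?_
    have h1 : (lin l : G → ℂ) 1 = 1 := by
      show ((l.comp (QuotientGroup.mk' (P : Subgroup G)) 1 : ℂˣ) : ℂ) = 1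
      rw [map_one, Units.val_one]
    have h2 := irr_charDegree_cast (lin l)
    rw [h1] at h2
    rw [show charDegree (lin l : G → ℂ) = 1 by exact_mod_cast h2]
    exact (Fact.out : p.Prime).not_dvd_one
  have hli : LinearIndependent ℂ fun l : Q →* ℂˣ => pRegularPart p (lin l : G → ℂ) := by
    rw [Fintype.linearIndependent_iff]
    intro c hc
    have h0 : ∑ l : Q →* ℂˣ, c l • (fun q : Q => (l q : ℂ)) = 0 := by
      funext q
      have hq : ¬ p ∣ orderOf q := fun h => P.not_dvd_index (h.trans (by
        rw [Subgroup.index_eq_card]; exact orderOf_dvd_natCard q))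
      obtain ⟨g, rfl, hg⟩ := exists_regular_lift'' (Fact.out : p.Prime) _ hq
      have h1 := congrFun hc g
      simp only [Finset.sum_apply, Pi.smul_apply, Pi.zero_apply, pRegularPart_apply, if_neg hg] at h1 ⊢
      exact h1
    have hli' : LinearIndependent ℂ (fun l : Q →* ℂˣ => (fun q : Q => (l q : ℂ))) :=
      (linearIndependent_monoidHom Q ℂ).comp (fun l => (Units.coeHom ℂ).comp l)
        fun a b h => MonoidHom.ext fun q => Units.ext (DFunLike.congr_fun h q)
    exact Fintype.linearIndependent_iff.1 hli' c h0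
  rw [← hcard, Nat.card_eq_fintype_card, ← finrank_span_eq_card hli]
  refine Submodule.finrank_mono (Submodule.span_mono ?_)
  rintro _ ⟨l, rfl⟩
  exact ⟨lin l, hmem l, rfl⟩

end CfsgLib.AbPrincipal
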